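import Cfsg.Agent.UO.E
import Cfsg.Agent.Inv.SB2

/-! Odd unitary type: the multiplication in `U` and the identification with `PSU₃(q)`. -/

set_option autoImplicit false
set_option linter.unusedVariables false
set_option linter.unusedSectionVars false
set_option quotPrecheck false

namespace Cfsg.Agent.UO

open Subgroup MulAction Cfsg.Agent.BG Cfsg.Agent.Inv Cfsg.Agent.Lie Cfsg.Agent.Class
open scoped MatrixGroups

variable {G Ω : Type*} [Group G] [MulAction G Ω] [Finite G]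
variable {a b : Ω} {t : G} {U : Subgroup G} {p n : ℕ} {F : Type} [Field F] {ρ : SL(2, F) →* G}

local notation "𝓗" => St2 G a b
local notation "𝛎" => ρ (sN 1)

theorem US.gen {s : G} (S : US G a b s U p n) : closure ((U : Set G) ∪ {s}) = ⊤ := by
  have := S.simple
  have q1 : U ≤ closure ((U : Set G) ∪ {s}) := fun u hu => subset_closure (Or.inl hu)
  have t1 : s ∈ closure ((U : Set G) ∪ {s}) := subset_closure (Or.inr rfl)
  generalize closure ((U : Set G) ∪ {s}) = K at *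
  have dec : ∀ g : G, ∃ k ∈ K, k⁻¹ * g ∈ 𝓗 := fun g => by
    obtain ⟨k, hk, e⟩ : ∃ k ∈ K, k • a = g • a := by
      rcases S.cases (g • a) with e | ⟨u, hu, e⟩
      exacts [⟨1, one_mem _, by rw [e, one_smul]⟩, ⟨u * s, mul_mem (q1 hu) t1, by rw [mul_smul, S.sa, e]⟩]
    obtain ⟨u, hu, e'⟩ := S.decN bot_le (g := k⁻¹ * g) (N_bot.ge (mem_top _)) (by rw [mul_smul, ← e, inv_smul_smul])
    exact ⟨k * u, mul_mem hk (q1 hu.1), by rwa [mul_inv_rev, mul_assoc]⟩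
  have n1 : ∀ g : G, ∀ u ∈ U, g * u * g⁻¹ ∈ K := fun g u hu => by
    obtain ⟨k, hk, e⟩ := dec g
    simpa [mul_assoc] using mul_mem (mul_mem hk (q1 (S.conjU e hu))) (inv_mem hk)
  rcases (normalClosure_normal (s := (U : Set G))).eq_bot_or_eq_top with e | e
  · have := card_eq_one.2 (eq_bot_iff.2 (le_normalClosure.trans e.le))
    have := Nat.pow_le_pow_left S.q3 3
    rw [← S.card] at this
    omega
  · refine eq_top_iff.2 (e.ge.trans ((closure_le _).2 fun x hx => ?_))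
    obtain ⟨u, hu, g, rfl⟩ : ∃ u ∈ U, ∃ g, g * u * g⁻¹ = x := by simpa using Group.mem_conjugatesOfSet_iff.1 hx
    exact n1 g u hu

namespace UCo

variable {S : SLo G a b U p n t ρ} {E : Type} [Field E] {ι : F →+* E} {σ : E →+* E} {δ : E} {A B : G → E}
  (X : UCo S ι σ δ A B) {u v w h g x : G}
include X

theorem exν (hu : u ∈ U) (h0 : A u ≠ 0) : ∃ v ∈ U, v • b = 𝛎 • u • b :=
  S.trans _ fun e => h0 (by rw [S.free u hu (smul_left_cancel _ (e.trans S.sb.symm)), X.one.1])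

theorem sact (h1 : g • a = b) (h2 : g • b = a) : ∃ μ, ∀ u ∈ U, ∀ v ∈ U, A u ≠ 0 → g • u • b = v • b →
    A v * B u = -δ * μ * A u ∧ B v * B u = -δ ^ 2 * (σ μ * μ) := by
  have hh := S.swapH (smul_eq_iff_inv.1 h2) (smul_eq_iff_inv.1 h1) (smul_eq_iff_inv.1 S.sb) (smul_eq_iff_inv.1 S.sa)
  rw [inv_inv] at hh
  obtain ⟨μ, μ0, hμ⟩ := X.act _ hh
  refine ⟨μ, fun u hu v hv h0 e => ?_⟩
  obtain ⟨w, hw, e1⟩ := X.exν hu h0
  obtain rfl := S.inj (S.conjU hh hw) hv (by rw [S.conjb hh, e1, mul_smul, inv_smul_smul, e])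
  obtain ⟨b1, b2⟩ := X.tact u hu w hw e1.symm
  rw [(hμ w hw).1, (hμ w hw).2]
  exact ⟨by linear_combination μ * b1, by linear_combination σ μ * μ * b2⟩

/-- the multiplication rule -/
def Good (_X : UCo S ι σ δ A B) (u v : G) : Prop :=
  A (u * v) = A u + A v ∧ B (u * v) = B u + B v - σ (A u) * A v

theorem good_cyc {ω : G} (hω : ω ∈ U) (h0 : A ω ≠ 0) {r : F} (r0 : r ≠ 0) : ∃ g ∈ U, ∃ x ∈ U,
    A g * B ω = -δ * A ω ∧ A x * (B ω * (B ω + δ * ι r)) = δ * A ω * (δ * ι r) ∧ X.Good g x := by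
  obtain ⟨g, hg, e1⟩ := X.exν hω h0
  obtain ⟨f, hf, e2⟩ := X.exν (inv_mem hω) (by simpa [X.A_inv hω])
  have ω1 := mul_mem (S.eU r) hω
  obtain ⟨y, hy, e3⟩ := X.exν ω1 (by rwa [(X.mulz _ _ hω).1])
  have sa' : 𝛎⁻¹ • a = b := smul_eq_iff_inv.1 S.sb
  have sb' : 𝛎⁻¹ • b = a := smul_eq_iff_inv.1 S.sa
  obtain ⟨μ, hμ⟩ := X.sact (g := g⁻¹ * 𝛎 * ω * 𝛎⁻¹ * f)
    (by simp only [mul_smul, S.fixU hf, sa', ← e1, inv_smul_smul])
    (by simp only [mul_smul, e2, inv_smul_smul, smul_inv_smul, S.sb, S.fixU (inv_mem hg)])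
  obtain ⟨b1, b2⟩ := X.tact _ hω _ hg e1.symm
  obtain ⟨b3, b4⟩ := X.tact _ (inv_mem hω) _ hf e2.symm
  obtain ⟨b5, b6⟩ := X.tact _ ω1 _ hy e3.symm
  have δ0 := X.δ0
  have β0 := X.B_ne hω h0
  have β1 : σ (B ω) ≠ 0 := by simpa
  have β2 := X.B_ne' hω h0 r
  have r1 : ι r ≠ 0 := by simpa
  rw [X.A_inv hω, X.B_inv hω, ← eq_div_iff β1] at b3
  rw [X.B_inv hω, ← eq_div_iff β1] at b4
  have f0 : A f⁻¹ ≠ 0 := by simp [X.A_inv hf, *]
  have d1 := (hμ _ (inv_mem hf) _ (inv_mem hg) f0 (by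
    simp only [mul_smul, smul_inv_smul, sb', S.fixU hω, S.sa])).1
  obtain ⟨d2, d3⟩ := hμ _ (mul_mem (S.eU (-r⁻¹)) (inv_mem hf)) _ (mul_mem (inv_mem hg) hy)
    (by rwa [(X.mulz _ _ (inv_mem hf)).1]) (by
      rw [S.Zc (S.crd.mem _) (inv_mem hf)]
      simp only [mul_smul, smul_inv_smul, ← S.ν_sU r0, inv_smul_smul, e3]
      rw [← mul_smul ω, ← S.Zc (S.crd.mem _) hω, mul_smul])
  have x1 := mul_mem (inv_mem hg) hy
  obtain ⟨x, rfl⟩ : ∃ x, y = g * x := ⟨_, (mul_inv_cancel_left _ _).symm⟩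
  rw [inv_mul_cancel_left] at *
  simp only [X.mulz _ _ (inv_mem hf), X.mulz _ _ hω, X.A_inv hf, X.A_inv hg, X.B_inv hf, b3, b4, map_div₀, map_neg,
    map_pow, map_inv₀, X.σδ, X.uf.σσ] at d1 d2 d3 b5 b6
  rw [← eq_div_iff β0] at b1 b2
  rw [← eq_div_iff β2] at b5 b6
  have m1 : μ = -δ * σ (B ω) / B ω ^ 2 := by
    rw [b1] at d1; field_simp at d1 ⊢; linear_combination -d1
  have m2 : σ μ = δ * B ω / σ (B ω) ^ 2 := by simp [m1, X.σδ, X.uf.σσ]
  have m3 : A x = δ * A ω * (δ * ι r) / (B ω * (B ω + δ * ι r)) := by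
    rw [m1] at d2; field_simp at d2 ⊢; linear_combination -d2
  have m4 : B x = -δ ^ 2 * (δ * ι r) / (σ (B ω) * (B ω + δ * ι r)) := by
    rw [m2, m1] at d3; field_simp at d3 ⊢; linear_combination -d3
  have tr := X.tr ω hω
  refine ⟨g, hg, x, x1, by rw [b1]; field_simp, by rw [m3]; field_simp, ?_, ?_⟩
  · rw [b5, b1, m3]; field_simp; ring
  · simp only [b6, b1, b2, m3, m4, map_div₀, map_mul, map_neg, X.σδ]
    field_simp
    linear_combination δ * ι r * tr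

theorem good_shift (hu : u ∈ U) (hv : v ∈ U) (h : X.Good u v) (r s : F) :
    X.Good (ρ (sU r) * u) (ρ (sU s) * v) := by
  have e : ρ (sU r) * u * (ρ (sU s) * v) = ρ (sU (r + s)) * (u * v) := by
    rw [S.crd.add, mul_assoc, ← mul_assoc u, ← S.Zc (S.crd.mem s) hu]; group
  rw [Good, e, (X.mulz _ _ (mul_mem hu hv)).1, (X.mulz _ _ (mul_mem hu hv)).2, (X.mulz _ u hu).1,
    (X.mulz _ u hu).2, (X.mulz _ v hv).1, (X.mulz _ v hv).2, h.1, h.2, map_add]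
  exact ⟨rfl, by ring⟩

theorem good_indep (hu : u ∈ U) (hv : v ∈ U) (h : σ (A u) * A v ≠ A u * σ (A v)) : X.Good u v := by
  have σσ := X.uf.σσ
  have δ0 := X.δ0
  have u0 : A u ≠ 0 := fun e => h (by simp [e])
  have v0 : A v ≠ 0 := fun e => h (by simp [e])
  have u1 : σ (A u) ≠ 0 := by simpa
  have v1 : σ (A v) ≠ 0 := by simpa
  have s0 : A u + A v ≠ 0 := fun e => h (by rw [eq_neg_of_add_eq_zero_left e, map_neg]; ring)
  have s1 : σ (A u) + σ (A v) ≠ 0 := by rwa [← map_add, map_ne_zero]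
  obtain ⟨c, hc⟩ := X.fix (-δ * (σ (A u) * A v - A u * σ (A v)) /
    (σ (A u) * A u * ((σ (A u) + σ (A v)) * (A u + A v)))) (by
    simp only [map_div₀, map_add, map_sub, map_neg, map_mul, σσ, X.σδ]; ring)
  have c1 : ι c ≠ 0 := by simp [hc, sub_ne_zero.2 h, *]
  have c0 : c ≠ 0 := by simpa using c1
  obtain ⟨ω, hω, a1, a2⟩ := X.surj (A u * (ι c * (A u + A v) / A v)) (-δ * ι c * (A u + A v) / A v) (by
    simp only [map_div₀, map_add, map_mul, map_neg, X.σι, X.σδ]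
    rw [eq_div_iff (by simp [u0, s0, s1])] at hc
    field_simp
    linear_combination ι c * hc)
  obtain ⟨g, hg, x, hx, b1, b2, b3⟩ := X.good_cyc hω (by simp [a1, u0, v0, s0, c0]) c0
  rw [a1, a2] at b1 b2
  obtain ⟨r, rfl⟩ := X.same hu hg (by field_simp at b1; grind)
  obtain ⟨s, rfl⟩ := X.same hv hx (by field_simp at b2; grind)
  exact X.good_shift hg hx b3 r s

theorem good (hu : u ∈ U) (hv : v ∈ U) : X.Good u v := by
  have two := X.two
  by_cases h : σ (A u) * A v ≠ A u * σ (A v)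
  · exact X.good_indep hu hv h
  push Not at h
  have g1 : ∀ u ∈ U, X.Good u 1 ∧ X.Good 1 u := fun u hu => by simp [Good, X.one]
  by_cases u0 : A u = 0
  · obtain ⟨r, rfl⟩ := X.same hu (one_mem _) (u0.trans X.one.1.symm)
    simpa [S.crd.zero] using X.good_shift (one_mem _) hv (g1 v hv).2 r 0
  by_cases v0 : A v = 0
  · obtain ⟨r, rfl⟩ := X.same hv (one_mem _) (v0.trans X.one.1.symm)
    simpa [S.crd.zero] using X.good_shift hu (one_mem _) (g1 u hu).1 0 r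
  by_cases s0 : A v = -A u
  · obtain ⟨r, rfl⟩ := X.same hv (inv_mem hu) (s0.trans (X.A_inv hu).symm)
    have := X.tr u hu
    simpa [S.crd.zero] using X.good_shift hu (inv_mem hu) (by
      rw [Good, mul_inv_cancel, X.one.1, X.one.2, X.A_inv hu, X.B_inv hu]; grind) 0 r
  obtain ⟨w, hw, a1, a2⟩ := X.surj (δ * A u) (-(σ (δ * A u) * (δ * A u)) / 2) (by
    simp only [map_mul, map_div₀, map_neg, map_ofNat, X.uf.σσ]; field_simp; ring)
  have δ0 := X.δ0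
  have u1 : σ (A u) ≠ 0 := by simpa
  have v1 : σ (A v) ≠ 0 := by simpa
  have s1 : σ (A v) ≠ -σ (A u) := map_neg σ _ ▸ σ.injective.ne s0
  have b1 := X.good_indep hv hw (by rw [a1, map_mul, X.σδ]; grind)
  have b2 := X.good_indep hu (mul_mem hv hw) (by rw [b1.1, a1, map_add, map_mul, X.σδ]; grind)
  have b3 := X.good_indep (mul_mem hu (mul_mem hv hw)) (inv_mem hw) (by
    rw [b2.1, b1.1, X.A_inv hw, a1, map_add, map_add, map_neg, map_mul, X.σδ]; grind)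
  have := X.tr w hw
  rw [Good, ← mul_assoc, mul_inv_cancel_right, mul_assoc, b2.1, b2.2, b1.1, b1.2, X.A_inv hw, X.B_inv hw,
    map_add, map_add] at b3
  exact ⟨by grind, by grind⟩

theorem psu : Nonempty (G ≃* Cfsg.PSU 3 E (Nat.card F)) := by
  classical
  have := S.simple
  have : FaithfulSMul G Ω := ⟨fun {g g'} h => inv_mul_eq_one.1 (S.eq_one fun c => by
    rw [mul_smul, ← h, inv_smul_smul])⟩
  have δ0 := X.δ0
  choose! W hW e using S.trans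
  let v : Ω → Fin 3 → E := fun c => if c = a then ![1, 0, 0] else ![B (W c), A (W c), 1]
  have va : v a = ![1, 0, 0] := if_pos rfl
  have vu : ∀ u ∈ U, v (u • b) = ![B u, A u, 1] := fun u hu => by
    have h := S.neU hu
    rw [← S.inj (hW _ h) hu (e _ h), e _ h]; exact if_neg h
  have rQ : ∀ u ∈ U, ∀ φ : (Fin 3 → E) → Fin 3 → E, (∀ x, φ x = ![x 0 - σ (A u) * x 1 + B u * x 2,
      x 1 + A u * x 2, x 2]) → ∀ d, ∃ m : E, φ (v d) = m • v (u • d) := fun u hu φ h d => ⟨1, by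
    rcases S.cases d with rfl | ⟨w, hw, rfl⟩
    · rw [S.fixU hu, h, va]; simp
    · rw [← mul_smul u, h, vu _ hw, vu _ (mul_mem hu hw), (X.good hu hw).1, (X.good hu hw).2]
      simp [add_comm]; ring⟩
  refine psu_of_action X.uf (S.cardF ▸ S.q3) v (fun c h => ?_)
    (fun c d l h => ?_) S.tr1 (fun x hx => ?_) (fun l c hu hc => ?_) S.gen ?_
  · rcases S.cases c with rfl | ⟨w, hw, rfl⟩
    · simpa [va] using congrFun h 0
    · simpa [vu _ hw] using congrFun h 2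
  · have h0 := congrFun h 0
    have h1 := congrFun h 1
    have h2 := congrFun h 2
    rcases S.cases c with rfl | ⟨w, hw, rfl⟩ <;> rcases S.cases d with rfl | ⟨w', hw', rfl⟩
    · rfl
    · simp [va, vu _ hw'] at h2
    · simp [va, vu _ hw] at h0 h2; simp [h2] at h0
    · simp [vu _ hw, vu _ hw'] at h0 h1 h2
      simp [h2] at h0 h1
      rw [X.inj _ hw _ hw' h1 h0]
  · rw [aFS_Q] at hx
    by_cases x2 : x 2 = 0
    · refine ⟨a, x 0, ?_⟩
      simp [x2] at hx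
      ext i; fin_cases i <;> simp [va, x2, hx]
    have : σ (x 2) ≠ 0 := by simpa
    obtain ⟨u, hu, e1, e2⟩ := X.surj (x 1 / x 2) (x 0 / x 2) (by
      rw [map_div₀, map_div₀]; field_simp; linear_combination hx)
    refine ⟨u • b, x 2, ?_⟩
    ext i; fin_cases i <;> simp [vu _ hu, e1, e2, mul_div_cancel₀ _ x2]
  · obtain ⟨u, hu, e1, e2⟩ := X.surj 0 (σ l * l * c) (by
      simp only [map_mul, X.uf.σσ]; linear_combination σ l * l * hc)
    refine ⟨u, rQ u hu _ fun x => ?_⟩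
    ext i; fin_cases i <;> simp [FS.uT_apply, aFS_B, va, e1, e2]
    ring
  rintro u (hu | rfl)
  · refine ⟨(aFS X.uf).eich ![1, 0, 0] ![0, A u, 0] (-σ (B u)) (by simp [aFS_Q]) (by simp [aFS_B]) (by
      simp [aFS_Q, X.uf.σσ]; linear_combination -X.tr u hu), ⟨FS.eich_mem _ _ _ _ _ _ _, FS.det_eich _ _ _ _⟩,
      rQ u hu _ fun x => ?_⟩
    ext i; fin_cases i <;> simp [FS.eich_apply, aFS_B, X.uf.σσ, mul_comm, Matrix.vecHead, Matrix.vecTail]
  have c1 : δ + σ δ = 0 := by rw [X.σδ, add_neg_cancel]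
  have c2 : -δ⁻¹ + σ (-δ⁻¹) = 0 := by simp [X.σδ]
  have q1 : (aFS X.uf).Q ![1, 0, 0] = 0 := by simp [aFS_Q]
  have q2 : (aFS X.uf).Q ![0, 0, 1] = 0 := by simp [aFS_Q]
  have m1 := FS.EO_le_SI (FS.uT_mem_EO _ δ q1 c1)
  refine ⟨_, mul_mem (mul_mem m1 (FS.EO_le_SI (FS.uT_mem_EO _ _ q2 c2))) m1, fun d => ?_⟩
  have sw : ∀ x, ((aFS X.uf).uT _ δ q1 c1 * (aFS X.uf).uT _ _ q2 c2 * (aFS X.uf).uT _ δ q1 c1) x =
      ![δ * x 2, x 1, -δ⁻¹ * x 0] := fun x => by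
    have a1 : ∀ x, (aFS X.uf).uT _ δ q1 c1 x = ![x 0 + δ * x 2, x 1, x 2] := fun x => by
      ext i; fin_cases i <;> simp [FS.uT_apply, aFS_B]
    have a2 : ∀ x, (aFS X.uf).uT _ _ q2 c2 x = ![x 0, x 1, x 2 + -δ⁻¹ * x 0] := fun x => by
      ext i; fin_cases i <;> simp [FS.uT_apply, aFS_B]
    ext i; fin_cases i <;> simp [a1, a2] <;> field_simp <;> ring
  have vb := vu 1 (one_mem _)
  rw [one_smul, X.one.1, X.one.2] at vb
  rw [sw]
  rcases S.cases d with rfl | ⟨w, hw, rfl⟩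
  · exact ⟨-δ⁻¹, by simp [va, vb, S.sa]⟩
  rcases S.cases (𝛎 • w • b) with h | ⟨w', hw', h⟩
  · rw [h, S.free w hw (smul_left_cancel _ (h.trans S.sb.symm)), one_smul]
    exact ⟨δ, by simp [va, vb]⟩
  · obtain ⟨e1, e2⟩ := X.tact _ hw _ hw' h.symm
    refine ⟨-δ⁻¹ * B w, ?_⟩
    ext i; fin_cases i <;> simp [← h, vu _ hw, vu _ hw'] <;> field_simp <;> grind

end UCo

theorem US.psu {s : G} (S : US G a b s U p n) : ∃ (F : Type) (_ : Field F) (_ : Fintype F),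
    Fintype.card F = (p ^ n) ^ 2 ∧ Nonempty (G ≃* Cfsg.PSU 3 F (p ^ n)) := by
  obtain ⟨t, T⟩ := S.exists_UT
  obtain ⟨F, _, _, ρ, C⟩ := T.exists_SLo
  obtain ⟨E, _, ι, σ, δ, A, B, X⟩ := C.exists_UCo
  have := X.uf.finite
  have := Fintype.ofFinite E
  exact ⟨E, inferInstance, inferInstance, by rw [← Nat.card_eq_fintype_card, X.uf.card, C.cardF], C.cardF ▸ X.psu⟩

theorem s1148 {G : Type*} [Group G] [Finite G] [IsSimpleGroup G]
    (P : Cfsg.BNPair G) (h1 : P.rank = 1) {p n : ℕ} (hp : p.Prime) (hp2 : p ≠ 2) (hn : 1 ≤ n)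
    (U : Subgroup G) (hUB : U ≤ P.B) (hUn : ∀ b ∈ P.B, ∀ u ∈ U, b * u * b⁻¹ ∈ U)
    (hsplit : U ⊔ (P.B ⊓ P.N) = P.B) (hdisj : U ⊓ (P.B ⊓ P.N) = ⊥)
    (hind : P.B.index = p ^ (3 * n) + 1) (hU : Nat.card U = p ^ (3 * n))
    (hHc : IsCyclic ↥(P.B ⊓ P.N))
    (hH : Nat.gcd 3 (p ^ n + 1) * Nat.card ↥(P.B ⊓ P.N) = p ^ (2 * n) - 1) :
    ∃ (F : Type) (_ : Field F) (_ : Fintype F), Fintype.card F = (p ^ n) ^ 2 ∧
      Nonempty (G ≃* Cfsg.PSU 3 F (p ^ n)) := by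
  obtain ⟨⟨s, hs⟩, s1⟩ := Nat.card_eq_one_iff_exists.1 h1
  have s2 : P.S = {s} := Set.eq_singleton_iff_unique_mem.2 ⟨hs, fun x hx => congrArg Subtype.val (s1 ⟨x, hx⟩)⟩
  have sN : s ∈ P.N := P.subset hs
  have sB := Lie.BN.not_mem_B P hs
  have nU : P.B ≤ N[U] := le_N_iff.2 hUn
  have pr := isProd_of_l (inf_le_left.trans nU) hsplit
  have tr : ∀ y : G ⧸ P.B, y ≠ (1 : G) → ∃ u ∈ U, u • (s : G ⧸ P.B) = y := fun y => QuotientGroup.induction_on y fun g h => by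
    obtain ⟨w, hw⟩ := Lie.BN.exists_mem_C (P := P) g
    obtain ⟨n, rfl⟩ := Lie.BN.π_surj P w
    obtain ⟨x, hx, y, hy, rfl⟩ := (Lie.BN.mem_C n rfl).1 hw
    have := P.closure_sup.ge n.2
    rw [s2, ← zpowers_eq_closure, sup_comm, mem_sup_zpowers_iff (A := P.B ⊓ P.N) (s := s) (fun a ha => mem_inf.2
      ⟨P.conj_mem s sN a ha, mul_mem (mul_mem sN ha.2) (inv_mem sN)⟩) (mem_inf.2 ⟨P.sq_mem s hs, mul_mem sN sN⟩)] at this
    rcases this with h' | h'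
    · exact absurd (QuotientGroup.eq.2 (by simpa using inv_mem (mul_mem (mul_mem hx h'.1) hy))) h
    obtain ⟨u, hu, τ, hτ, e⟩ := pr.ex _ (mul_mem hx h'.1)
    refine ⟨u, hu, QuotientGroup.eq.2 ?_⟩
    convert mul_mem (P.conj_mem _ (inv_mem sN) τ hτ) hy using 1
    simp only [eq_inv_mul_iff_mul_eq.2 e.symm, smul_eq_mul]; group
  have st : stabilizer G ((1 : G) : G ⧸ P.B) = P.B := stabilizer_quotient _
  have ne : (s : G ⧸ P.B) ≠ (1 : G) := fun e => sB (by simpa using QuotientGroup.eq.1 e.symm)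
  have fr : stabilizer G (s : G ⧸ P.B) ⊓ U = ⊥ := by
    have e1 := card_inf_mul_relIndex (stabilizer G (s : G ⧸ P.B)) U
    rw [relIndex_stab, Set.Subset.antisymm (b := {((1 : G) : G ⧸ P.B)}ᶜ) (a := orbit _ _) ?_
      fun y hy => (tr y hy).elim fun u h => ⟨⟨u, h.1⟩, h.2⟩, Set.ncard_compl, Set.ncard_singleton, ← index, hind,
      ← hU, Nat.add_sub_cancel] at e1
    · exact card_eq_one.1 (Nat.eq_of_mul_eq_mul_right (card_pos U) (by rw [e1, one_mul]))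
    rintro _ ⟨u, rfl⟩ e
    exact ne (smul_left_cancel (u : G) (e.trans (st.ge (hUB u.2)).symm))
  have l : P.B ⊓ P.N ≤ St2 G ((1 : G) : G ⧸ P.B) s := fun h hh => ⟨st.ge hh.1, QuotientGroup.eq.2 (by
    simpa [mul_assoc] using P.conj_mem _ (inv_mem sN) _ (inv_mem hh))⟩
  have eH : St2 G ((1 : G) : G ⧸ P.B) s = P.B ⊓ P.N := le_antisymm (fun h hh => by
    obtain ⟨u, hu, k, hk, rfl⟩ := pr.ex h (st.le hh.1)
    rwa [mem_bot.1 (fr.le ⟨(mul_mem_cancel_right (mem_inf.1 (l hk)).2).1 hh.2, hu⟩), one_mul]) l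
  exact US.psu (s := s) ⟨inferInstance, hp, hp2, by omega, ne, by simp, QuotientGroup.eq.2 (by
    simpa using inv_mem (P.sq_mem s hs)), st.symm ▸ hUB, st.symm ▸ nU, tr, fun u hu e => fr.le ⟨e, hu⟩,
    by rw [hU, mul_comm, pow_mul], eH.symm ▸ hHc, by rw [eH, hH, mul_comm, pow_mul]⟩

end Cfsg.Agent.UO
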