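import Cfsg.Agent.Inv.R1k

/-! Odd unitary type: fixed points of subgroups of the two-point stabilizer. -/

set_option autoImplicit false
set_option linter.unusedVariables false
set_option linter.unusedSectionVars false

namespace Cfsg.Agent.UO

open Subgroup MulAction Cfsg.Agent.BG Cfsg.Agent.Inv

theorem odd_geom {P a : ℕ} (hP : Odd P) : Odd (∑ i ∈ Finset.range a, P ^ i) ↔ Odd a := by
  induction a with
  | zero => simp
  | succ a ih =>
    rw [Finset.sum_range_succ, Nat.odd_add, Nat.odd_add, ih]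
    simp [Nat.not_even_iff_odd.2 (hP.pow (n := a))]

theorem geom_one {P a : ℕ} (hP : Odd P) (h1 : 1 < P) (ha : Odd a) (h : ∀ r, Odd r → r ∣ P ^ a - 1 → r ∣ P - 1) :
    a = 1 := by
  have e := Nat.geomSum_eq h1 a
  have d := Nat.le_of_dvd (by omega) (h _ ((odd_geom hP).2 ha) (e ▸ Nat.div_dvd_of_dvd (Nat.sub_one_dvd_pow_sub_one P a)))
  obtain ⟨k, rfl⟩ := ha
  rcases k with _ | k
  · rfl
  rw [show 2 * (k + 1) + 1 = 2 * k + 1 + 1 + 1 by ring, Finset.sum_range_succ', Finset.sum_range_succ'] at d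
  simp at d; omega

theorem num1 {p k n : ℕ} (hp : Odd p) (h1 : 1 < p) (k0 : k ≠ 0) (h : p ^ k + 1 ∣ (p ^ n) ^ 3 + 1)
    (h' : ∀ r, Odd r → r ∣ p ^ n - 1 → r ∣ p ^ k - 1) : k = n ∨ k = n * 3 := by
  obtain ⟨a, ha, e⟩ : ∃ a, Odd a ∧ n * 3 = k * a := by
    have r := Nat.mod_lt (n * 3) (Nat.pos_of_ne_zero k0)
    have l := Nat.pow_lt_pow_right h1 r
    have l0 : 0 < p ^ (n * 3 % k) := by positivity
    rw [← pow_mul, ← Nat.div_add_mod (n * 3) k, pow_add, pow_mul, ← Int.natCast_dvd_natCast] at h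
    have h2 := (Int.modEq_iff_dvd.2 (show ((p ^ k + 1 : ℕ) : ℤ) ∣ p ^ k - -1 by simp)).pow (n * 3 / k)
    have h3 := (Int.modEq_iff_dvd.1 ((h2.mul_right ((p : ℤ) ^ (n * 3 % k))).add_right 1))
    have h4 := h.sub (by simpa using h3)
    rcases Nat.even_or_odd (n * 3 / k) with e | e
    · have : p ^ k + 1 ∣ p ^ (n * 3 % k) + 1 := Int.natCast_dvd_natCast.1 (h4.trans (dvd_of_eq (by
        simp [e.neg_one_pow]; ring)))
      have := Nat.le_of_dvd (by omega) this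
      omega
    · have : p ^ k + 1 ∣ p ^ (n * 3 % k) - 1 := Int.natCast_dvd_natCast.1 ((dvd_neg.2 h4).trans (dvd_of_eq (by
        rw [Nat.cast_sub l0]; simp [e.neg_one_pow])))
      have := Nat.eq_zero_of_dvd_of_lt this (by omega)
      have : p ^ (n * 3 % k) = p ^ 0 := by rw [pow_zero]; omega
      refine ⟨_, e, ?_⟩
      have h5 := Nat.div_add_mod (n * 3) k
      rw [Nat.pow_right_injective h1 this] at h5
      omega
  by_cases a3 : 3 ∣ a
  · obtain ⟨a, rfl⟩ := a3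
    obtain rfl : n = k * a := by nlinarith
    have := geom_one (P := p ^ k) (a := a) hp.pow (Nat.one_lt_pow k0 h1) (Nat.odd_mul.1 ha).2 (by rwa [← pow_mul])
    left; rw [this, mul_one]
  · obtain ⟨k, rfl⟩ := (Nat.prime_three.dvd_mul.1 (e ▸ dvd_mul_left 3 n : 3 ∣ k * a)).resolve_right a3
    obtain rfl : n = k * a := by nlinarith
    have := geom_one (P := p ^ k) (a := a) hp.pow (Nat.one_lt_pow (by omega) h1) ha fun r h1 h2 => by
      have := Nat.dvd_gcd h2 (h' r h1 (by rwa [pow_mul]))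
      rwa [mul_comm 3, pow_mul, Nat.pow_sub_one_gcd_pow_sub_one,
        ((Nat.Prime.coprime_iff_not_dvd Nat.prime_three).2 a3).symm, pow_one] at this
    right; rw [this]; ring

variable {G Ω : Type*} [Group G] [MulAction G Ω]

theorem cyc_sub [Finite G] {H : Subgroup G} (h : Cyc H) {r : ℕ} (hr : r ∣ #H) : ∃ Y ≤ H, #Y = r := by
  obtain ⟨x, rfl⟩ := cyc_iff.1 h
  rw [card_zpowers'] at hr
  exact ⟨zpowers (x ^ (orderOf x / r)), zpowers_le.2 (pow_mem (mem_zpowers x) _), by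
    rw [card_zpowers', orderOf_pow_orderOf_div (orderOf_pos x).ne' hr]⟩

/-- the set-up of odd unitary type -/
structure US (G : Type*) {Ω : Type*} [Group G] [MulAction G Ω] (a b : Ω) (s : G) (U : Subgroup G) (p n : ℕ) :
    Prop where
  simple : IsSimpleGroup G
  hp : p.Prime
  p2 : p ≠ 2
  n0 : n ≠ 0
  ne : b ≠ a
  sa : s • a = b
  sb : s • b = a
  le : U ≤ stabilizer G a
  norm : stabilizer G a ≤ N[U]
  trans : ∀ c, c ≠ a → ∃ u ∈ U, u • b = c
  free : ∀ u ∈ U, u • b = b → u = 1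
  card : #U = (p ^ n) ^ 3
  cyc : Cyc (St2 G a b)
  cardH : Nat.gcd 3 (p ^ n + 1) * #(St2 G a b) = (p ^ n) ^ 2 - 1

theorem fix_smul {X : Subgroup G} {g : G} {c : Ω} (hg : g ∈ N[X]) (h : X ≤ stabilizer G c) :
    X ≤ stabilizer G (g • c) := fun x hx => by
  have : (g⁻¹ * x * g) • c = c := h (conj_mem' hg hx)
  rwa [mul_smul, mul_smul, inv_smul_eq_iff] at this

namespace US

variable [Finite G] {a b : Ω} {s : G} {U : Subgroup G} {p n : ℕ} (S : US G a b s U p n)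
variable {X Y : Subgroup G} {u v d g x y : G} {c : Ω}
include S

local notation "𝓗" => St2 G a b
local notation "𝓺" => p ^ n

theorem podd : Odd p := S.hp.odd_of_ne_two S.p2
theorem qodd : Odd 𝓺 := S.podd.pow
theorem q3 : 3 ≤ 𝓺 := by
  have := Nat.one_lt_pow S.n0 S.hp.one_lt
  have := Nat.odd_iff.1 S.qodd
  omega
theorem pU : PiG {p} U := pig_of_card_pow S.hp (S.card.trans (pow_mul p n 3).symm)
theorem oddU : Odd #U := S.card ▸ S.qodd.pow
theorem fixU (hu : u ∈ U) : u • a = a := S.le hu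
theorem smul_ne (hg : g • a = a) (hc : c ≠ a) : g • c ≠ a := fun e => hc (smul_left_cancel g (e.trans hg.symm))
theorem neU (hu : u ∈ U) : u • b ≠ a := S.smul_ne (S.fixU hu) S.ne
theorem inj (hu : u ∈ U) (hv : v ∈ U) (h : u • b = v • b) : u = v :=
  (inv_mul_eq_one.1 (S.free _ (mul_mem (inv_mem hv) hu) (by rw [mul_smul, h, inv_smul_smul]))).symm
theorem conjU (hd : d ∈ 𝓗) (hu : u ∈ U) : d * u * d⁻¹ ∈ U := conj_mem (S.norm hd.1) hu
theorem normH : 𝓗 ≤ N[U] := inf_le_left.trans S.norm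
theorem conjb (hd : d ∈ 𝓗) (u : G) : (d * u * d⁻¹) • b = d • u • b := by
  rw [mul_smul, mul_smul, show d⁻¹ • b = b from (inv_mem hd).2]
theorem fix_iff (hd : d ∈ 𝓗) (hu : u ∈ U) : d • u • b = u • b ↔ u ∈ C1[d] := by
  rw [← S.conjb hd, mem_C1', ← mul_inv_eq_iff_eq_mul]
  exact ⟨S.inj (S.conjU hd hu) hu, fun e => by rw [e]⟩
theorem cases (c : Ω) : c = a ∨ ∃ u ∈ U, u • b = c := (em _).imp_right (S.trans c)
theorem UH : U ⊓ 𝓗 = ⊥ := eq_bot_iff.2 fun u hu => S.free u hu.1 hu.2.2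
theorem comm (hx : x ∈ 𝓗) (hy : y ∈ 𝓗) : x * y = y * x := mem_C_comm S.cyc.abel hx hy
theorem finite : Finite Ω := by
  refine Finite.of_surjective (fun g : G => g • a) fun c => ?_
  rcases S.cases c with rfl | ⟨u, -, rfl⟩
  exacts [⟨1, one_smul _ _⟩, ⟨u * s, by simp only [mul_smul, S.sa]⟩]

theorem eq_one (h : ∀ c : Ω, g • c = c) : g = 1 := by
  have := S.simple
  rcases (toPermHom G Ω).normal_ker.eq_bot_or_eq_top with e | e
  · exact e.le (Equiv.ext h)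
  · exact absurd (S.sa.symm.trans (congrArg (· a) (e.ge (mem_top s) : toPermHom G Ω s = 1))) S.ne

theorem swapN (h1 : g • a = b) (h2 : g • b = a) : g ∈ N[𝓗] := mem_N_of fun d hd =>
  ⟨show _ • a = a by rw [mul_smul, mul_smul, smul_eq_iff_inv.1 h2, hd.2, h2],
    show _ • b = b by rw [mul_smul, mul_smul, smul_eq_iff_inv.1 h1, hd.1, h1]⟩

theorem swapH {g' : G} (h1 : g • a = b) (h2 : g • b = a) (h3 : g' • a = b) (h4 : g' • b = a) : g⁻¹ * g' ∈ 𝓗 :=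
  ⟨show _ • a = a by rw [mul_smul, h3, smul_eq_iff_inv.1 h1], show _ • b = b by rw [mul_smul, h4, smul_eq_iff_inv.1 h2]⟩

theorem tr1 (c : Ω) : ∃ g : G, g • a = c := by
  rcases S.cases c with rfl | ⟨u, -, rfl⟩
  exacts [⟨1, one_smul _ _⟩, ⟨u * s, by rw [mul_smul, S.sa]⟩]

theorem tr2 {c' : Ω} (h : c ≠ c') : ∃ g : G, g • a = c ∧ g • b = c' := by
  obtain ⟨g, rfl⟩ := S.tr1 c
  obtain ⟨u, hu, e⟩ := S.trans (g⁻¹ • c') fun e => h (inv_smul_eq_iff.1 e).symm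
  exact ⟨g * u, by rw [mul_smul, S.fixU hu], by rw [mul_smul, e, smul_inv_smul]⟩

section X
variable (hX : X ≤ St2 G a b)
include hX

theorem sN : s ∈ N[X] := S.cyc.norm_sub hX le_rfl (S.swapN S.sa S.sb)
theorem HC : 𝓗 ≤ C[X] := centSS S.cyc.abel le_rfl hX

theorem fixX (hu : u ∈ U) : X ≤ stabilizer G (u • b) ↔ u ∈ C[X] :=
  ⟨fun h => mem_C.2 fun x hx => mem_C1'.1 ((S.fix_iff (hX hx) hu).1 (h hx)),
    fun h x hx => (S.fix_iff (hX hx) hu).2 (C_le_C1 hx h)⟩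

theorem exX (hc : X ≤ stabilizer G c) (n : c ≠ a) : ∃ u ∈ U ⊓ C[X], u • b = c := by
  obtain ⟨u, hu, rfl⟩ := S.trans c n
  exact ⟨u, ⟨hu, (S.fixX hX hu).1 hc⟩, rfl⟩

theorem ncard_fix : {c : Ω | X ≤ stabilizer G c}.ncard = #(U ⊓ C[X]) + 1 := by
  have := S.finite
  rw [show {c : Ω | X ≤ stabilizer G c} = insert a ((fun z => z • b) '' ((U ⊓ C[X] : Subgroup G) : Set G)) from ?_,
    Set.ncard_insert_of_notMem, Set.ncard_image_of_injOn]
  · rfl
  · exact fun u hu v hv => S.inj hu.1 hv.1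
  · rintro ⟨u, hu, e⟩; exact S.neU hu.1 e
  ext c
  refine ⟨fun h => (em _).imp_right (S.exX hX h), ?_⟩
  rintro (rfl | ⟨u, hu, rfl⟩)
  exacts [hX.trans inf_le_left, (S.fixX hX hu.1).2 hu.2]

theorem decN (hg : g ∈ N[X]) (h : g • a = a) : ∃ u ∈ U ⊓ C[X], u⁻¹ * g ∈ 𝓗 := by
  obtain ⟨u, hu, e⟩ := S.exX hX (fix_smul hg (hX.trans inf_le_right)) (S.smul_ne h S.ne)
  exact ⟨u, hu, show _ • a = a by rw [mul_smul, h, S.fixU (inv_mem hu.1)],
    show _ • b = b by rw [mul_smul, ← e, inv_smul_smul]⟩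

theorem cardN : #N[X] = #(U ⊓ C[X]) * #𝓗 * (#(U ⊓ C[X]) + 1) := by
  rw [← card_inf_mul_relIndex (stabilizer G a), relIndex_stab, ← S.ncard_fix hX,
    (sdprod_sup (eq_bot_iff.2 (S.UH ▸ inf_le_inf_right _ inf_le_left))
      (normI S.normH (normC (cents_norm (S.HC hX))))).card]
  refine congrArg₂ _ (congrArg (fun A : Subgroup G => #A) ?_) (congrArg _ ?_)
  · refine le_antisymm (fun g hg => ?_) (sup_le (le_inf (inf_le_left.trans S.le) (inf_le_right.trans (C_le_N _)))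
      (le_inf inf_le_left (cents_norm (S.HC hX))))
    obtain ⟨u, hu, e⟩ := S.decN hX hg.2 hg.1
    simpa using mul_mem_sup hu e
  refine subset_antisymm ?_ fun c hc => ?_
  · rintro _ ⟨g, rfl⟩; exact fix_smul g.2 (hX.trans inf_le_left)
  by_cases e : c = a
  · rw [e]; exact mem_orbit_self a
  obtain ⟨u, hu, rfl⟩ := S.exX hX hc e
  exact ⟨⟨u * s, mul_mem (C_le_N _ hu.2) (S.sN hX)⟩, by simp [mul_smul, S.sa]⟩

theorem NC (h : U ⊓ C[X] ≠ ⊥) : N[X] ≤ C[X] := by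
  have k : ∀ g ∈ N[X], g • a = a → g ∈ C[X] := fun g hg e => by
    obtain ⟨u, hu, e⟩ := S.decN hX hg e
    simpa using mul_mem hu.2 (S.HC hX e)
  have k2 : ∀ c ≠ a, ∀ c' ≠ a, X ≤ stabilizer G c → X ≤ stabilizer G c' → ∃ g ∈ C[X], g • c = c' := fun c n c' n' h h' => by
    obtain ⟨u, hu, rfl⟩ := S.exX hX h n
    obtain ⟨v, hv, rfl⟩ := S.exX hX h' n'
    exact ⟨v * u⁻¹, mul_mem hv.2 (inv_mem hu.2), by rw [mul_smul, inv_smul_smul]⟩
  obtain ⟨u, hu, u1⟩ := exists_mem_ne_one h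
  have m := conj_mem (normC (zpowers_le.2 (S.sN hX)) (mem_zpowers s)) hu.2
  intro g hg
  by_cases e : g • a = a
  · exact k g hg e
  obtain ⟨y, hy, e1⟩ := k2 _ e ((s * u * s⁻¹) • a) (fun e => u1 (S.free u hu.1 (by
    rwa [mul_smul, mul_smul, smul_eq_iff_inv.1 S.sb, smul_eq_iff_inv, smul_eq_iff_inv.1 S.sb, eq_comm] at e)))
    (fix_smul hg (hX.trans inf_le_left)) (fix_smul (C_le_N _ m) (hX.trans inf_le_left))
  have := k _ (mul_mem (mul_mem (inv_mem (C_le_N _ m)) (C_le_N _ hy)) hg) (by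
    rw [mul_smul, mul_smul, e1, inv_smul_smul])
  exact (mul_mem_cancel_left (mul_mem (inv_mem m) hy)).1 this

end X

theorem cardG : Nat.card G = 𝓺 ^ 3 * #𝓗 * (𝓺 ^ 3 + 1) := by
  have := S.cardN bot_le
  rwa [N_bot, C_bot, inf_top_eq, card_top, S.card] at this

theorem cardH' : ∃ m, 𝓺 + 1 = Nat.gcd 3 (𝓺 + 1) * m ∧ Even m ∧ #𝓗 = (𝓺 - 1) * m := by
  obtain ⟨m, hm⟩ := Nat.gcd_dvd_right 3 (𝓺 + 1)
  refine ⟨m, hm, ?_, Nat.eq_of_mul_eq_mul_left (Nat.gcd_pos_of_pos_left (𝓺 + 1) three_pos) ?_⟩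
  · exact (Nat.even_mul.1 (hm ▸ S.qodd.add_one)).resolve_left (Nat.not_even_iff_odd.2
      ((by decide : Odd 3).of_dvd_nat (Nat.gcd_dvd_left _ _)))
  · rw [S.cardH, mul_left_comm, ← hm, mul_comm]; exact Nat.sq_sub_sq _ 1

theorem dvdH : 2 * (𝓺 - 1) ∣ #𝓗 := by
  obtain ⟨m, -, ⟨k, rfl⟩, h⟩ := S.cardH'
  exact ⟨k, by rw [h]; ring⟩

theorem fpf_prime (hx : x ∈ 𝓗) (hl : (orderOf x).Prime) (l2 : orderOf x ≠ 2) (hd : orderOf x ∣ 𝓺 - 1) :
    U ⊓ C1[x] = ⊥ := by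
  have := S.simple
  by_contra h
  have hX := zpowers_le.2 hx
  obtain ⟨P, hP, xP⟩ := syl_superset hl hX (pig_of_card' hl (card_zpowers' x))
  have nd : ¬ orderOf x ∣ 𝓺 ^ 3 * (𝓺 ^ 3 + 1) := fun e => by
    obtain ⟨r, hr⟩ := Nat.exists_eq_add_of_le' (show 1 ≤ 𝓺 from S.qodd.pos)
    rw [hr] at e hd
    rw [Nat.add_sub_cancel] at hd
    rw [show (r + 1) ^ 3 * ((r + 1) ^ 3 + 1) = r * ((r ^ 2 + 3 * r + 3) * ((r + 1) ^ 3 + 2)) + 2 by ring,
      Nat.dvd_add_right (Dvd.dvd.mul_right hd _), Nat.prime_dvd_prime_iff_eq hl Nat.prime_two] at e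
    exact l2 e
  have sP : Syl _ P ⊤ := hP.trans' le_top ((pin_compl hl).2 fun e => nd (by
    have := card_mul_relIndex (le_top (a := 𝓗))
    rw [card_top, S.cardG, mul_comm (𝓺 ^ 3), mul_assoc] at this
    exact Nat.eq_of_mul_eq_mul_left (card_pos _) this ▸ e))
  have cP := S.cyc.of_le hP.le
  have h1 : N[P] ≤ C1[x] := (cP.norm_sub xP le_rfl).trans (C_zpowers x ▸ S.NC hX (by rwa [C_zpowers]))
  have x1 : x ≠ 1 := fun e => hl.one_lt.ne' (by rw [e, orderOf_one])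
  have h2 := burnside hl sP (le_of_pie fun r hr y hy py => by
    by_cases e : r = orderOf x
    · exact cP.abel ((sP.sub (le_inf le_top (normG _)) le_top).mem_of_normal inf_le_right (e ▸ py) hy)
    exact cP.cop_cent hP.pi (zpowers_le.2 hy.2) (PiN.coprime' (PiN.ne_compl (pig_zpowers.2 py) e) hP.pi)
      (ne_bot_of_mem ⟨xP (mem_zpowers x), C_zpowers y ▸ C1_symm (h1 hy.2)⟩ x1) (mem_zpowers y))
  rcases (BG.normal_iff.2 (O_norm {orderOf x}ᶜ (⊤ : Subgroup G))).eq_bot_or_eq_top with e | e <;> rw [PNil, e] at h2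
  · have := h2.eq_bot_iff.1 rfl
    rw [compl_compl] at this
    exact l2 (PiN.eq_prime this Nat.prime_two (((dvd_mul_right 2 _).trans S.dvdH).trans (cardS le_top))).symm
  · exact PiN.not_dvd h2.pi hl rfl (orderOf_dvd (mem_top x))

theorem semireg {V : Subgroup G} (hV : V ≤ U) (hY : Y ≤ 𝓗) (h : #Y ∣ 2 * (𝓺 - 1))
    (h2 : ∀ x ∈ Y, orderOf x = 2 → V ⊓ C1[x] = ⊥) : Semireg V Y := fun x hx x1 => by
  obtain ⟨y, hy, py⟩ := exists_prime_pow_mem x1
  have y1 := zpowers_le.2 hx hy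
  refine eq_bot_iff.2 ((inf_le_inf_left _ (C1_le_of_mem_zpowers hy)).trans (le_of_eq ?_))
  by_cases e : orderOf y = 2
  · exact h2 y y1 e
  exact eq_bot_iff.2 (S.fpf_prime (hY y1) py e ((py.dvd_mul.1 ((orderOf_dvd y1).trans h)).resolve_left
    fun d => e ((Nat.prime_dvd_prime_iff_eq py Nat.prime_two).1 d)) ▸ inf_le_inf_right _ hV)

theorem dich (hX : X ≤ 𝓗) (h0 : X ≠ ⊥) (h : U ⊓ C[X] ≠ ⊥) : #(U ⊓ C[X]) = 𝓺 := by
  obtain ⟨k, hk⟩ := (S.pU.of_le (inf_le_left (b := C[X]))).card_pow S.hp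
  have k0 : k ≠ 0 := fun e => h (card_eq_one.1 (by rw [hk, e, pow_zero]))
  have d := cardS (le_top (a := N[X]))
  rw [card_top, S.cardG, S.cardN hX, hk, mul_right_comm, mul_right_comm (𝓺 ^ 3),
    Nat.mul_dvd_mul_iff_right (card_pos _)] at d
  rcases num1 S.podd S.hp.one_lt k0 (Nat.Coprime.dvd_of_dvd_mul_left (by
      refine Nat.Coprime.pow_right _ (Nat.Coprime.pow_right _ ?_)
      obtain ⟨k, rfl⟩ := Nat.exists_eq_succ_of_ne_zero k0
      simp [pow_succ]) ((dvd_mul_left _ _).trans d)) (fun r o hr => by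
      obtain ⟨Y, Y1, rfl⟩ := cyc_sub S.cyc ((hr.mul_left 2).trans S.dvdH)
      exact hk ▸ (S.semireg inf_le_left Y1 (hr.mul_left 2) fun x hx e =>
        absurd (e ▸ orderOf_dvd hx) o.not_two_dvd_nat).card_dvd
        (Y1.trans (normI S.normH (normC (cents_norm (S.HC hX)))))) with e | e
  · rw [hk, e]
  have := eq_of_card_le (inf_le_left (a := U) (b := C[X])) (by rw [hk, e, S.card, pow_mul])
  refine absurd (eq_bot_iff.2 fun x hx => S.eq_one fun c => ?_) h0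
  rcases S.cases c with rfl | ⟨u, hu, rfl⟩
  exacts [(hX hx).1, (S.fixX hX hu).2 (this.ge hu).2 hx]

end US

end Cfsg.Agent.UO
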