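import Cfsg.Agent.UO.A
import Cfsg.Agent.Comp.Conn

/-! Odd unitary type: the involution `t` of the two-point stabilizer, `Z = C_U(t)` and `W = C_H(Z)`. -/

set_option autoImplicit false
set_option linter.unusedVariables false
set_option linter.unusedSectionVars false
set_option quotPrecheck false

namespace Cfsg.Agent.UO

open Subgroup MulAction Cfsg.Agent.BG Cfsg.Agent.Inv

variable {G Ω : Type*} [Group G] [MulAction G Ω]

structure UT (G : Type*) {Ω : Type*} [Group G] [MulAction G Ω] (a b : Ω) (s : G) (U : Subgroup G) (p n : ℕ)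
    (t : G) : Prop extends US G a b s U p n where
  tH : t ∈ St2 G a b
  ot : orderOf t = 2

theorem US.exists_UT [Finite G] {a b : Ω} {s : G} {U : Subgroup G} {p n : ℕ} (S : US G a b s U p n) :
    ∃ t, UT G a b s U p n t :=
  (cauchy Nat.prime_two ((dvd_mul_right 2 _).trans S.dvdH)).imp fun t h => ⟨S, h.1, h.2⟩

namespace UT

variable [Finite G] {a b : Ω} {s t : G} {U : Subgroup G} {p n : ℕ} (S : UT G a b s U p n t)
variable {X Y V : Subgroup G} {u v d g x y z : G} {c : Ω}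
include S

local notation "𝓗" => St2 G a b
local notation "𝓺" => p ^ n
local notation "𝓩" => U ⊓ C1[t]
local notation "𝓦" => St2 G a b ⊓ C[U ⊓ C1[t]]

theorem tt : t * t = 1 := (ord2_iff.1 S.ot).1
theorem t1 : t ≠ 1 := (ord2_iff.1 S.ot).2
theorem tinv : t⁻¹ = t := inv_eq_of_mul_eq_one_right S.tt
theorem uniq (hx : x ∈ 𝓗) (h : x * x = 1) (h1 : x ≠ 1) : x = t :=
  Comp.eq_of_sq_of_cyclic S.cyc hx S.tH h1 S.t1 (by rw [sq, h]) (by rw [sq, S.tt])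
theorem Ht : 𝓗 ≤ C1[t] := fun d hd => mem_C1.2 (S.comm hd S.tH)
theorem normZ' : 𝓗 ≤ N[𝓩] := normI S.normH (normC1 S.Ht)
theorem tW : t ∈ 𝓦 := ⟨S.tH, le_C1_iff.1 inf_le_right⟩
theorem fixt (hu : u ∈ U) : t • u • b = u • b ↔ u ∈ 𝓩 := (S.fix_iff S.tH hu).trans (and_iff_right hu).symm

theorem dvd_sub (hV : V ≤ U) (h1 : 𝓗 ≤ N[V]) (h : V ⊓ C1[t] = ⊥) : 2 * (𝓺 - 1) ∣ #V - 1 := by
  obtain ⟨Y, Y1, e⟩ := cyc_sub S.cyc S.dvdH
  exact e ▸ (S.semireg hV Y1 e.dvd fun x hx e => by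
    rw [S.uniq (Y1 hx) (ord2_iff.1 e).1 (ord2_iff.1 e).2, h]).card_dvd (Y1.trans h1)

theorem dich1 (hx : x ∈ 𝓗) (x1 : x ≠ 1) (h : U ⊓ C1[x] ≠ ⊥) : #(U ⊓ C1[x]) = 𝓺 :=
  C_zpowers x ▸ S.dich (zpowers_le.2 hx) (by simpa using x1) (by rwa [C_zpowers])

theorem cardZ : #𝓩 = 𝓺 := S.dich1 S.tH S.t1 fun e => by
  have := S.dvd_sub le_rfl S.normH e
  have q3 := S.q3
  obtain ⟨k, hk⟩ := S.qodd
  rw [S.card, hk, show (2 * k + 1) ^ 3 - 1 = (4 * k ^ 2 + 6 * k + 3) * (2 * k) from Nat.sub_eq_of_eq_add (by ring),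
    Nat.add_sub_cancel, Nat.mul_dvd_mul_iff_right (by omega)] at this
  omega

theorem Zne : 𝓩 ≠ ⊥ := fun e => by have := S.cardZ; have := S.q3; rw [e, card_bot'] at *; omega

theorem ncardΔ : {c : Ω | t • c = c}.ncard = 𝓺 + 1 := by
  simpa only [zpowers_le, mem_stabilizer_iff, C_zpowers, S.cardZ] using S.ncard_fix (zpowers_le.2 S.tH)

theorem fixW (hx : x ∈ 𝓦) (x1 : x ≠ 1) (h : x • c = c) : t • c = c := by
  have l : 𝓩 ≤ U ⊓ C1[x] := le_inf inf_le_left (le_C1_iff.2 hx.2)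
  rcases S.cases c with rfl | ⟨u, hu, rfl⟩
  · exact S.tH.1
  exact (S.fixt hu).2 ((eq_of_card_le l (by rw [S.dich1 hx.1 x1 fun e => S.Zne (eq_bot_iff.2 (e ▸ l)), S.cardZ])).ge
    ⟨hu, (S.fix_iff hx.1 hu).1 h⟩)

theorem memW (hx : x ∈ 𝓗) (hz : z ∈ 𝓩) (z1 : z ≠ 1) (h : z ∈ C1[x]) : x ∈ 𝓦 := by
  have e : U ⊓ C[zpowers x ⊔ zpowers t] = 𝓩 ⊓ C1[x] := by rw [C_sup, C_zpowers, C_zpowers, inf_comm C1[x], inf_assoc]
  have := S.dich (sup_le (zpowers_le.2 hx) (zpowers_le.2 S.tH)) (ne_bot_of_mem (mem_sup_right (mem_zpowers t)) S.t1)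
    (e ▸ ne_bot_of_mem ⟨hz, h⟩ z1)
  exact ⟨hx, le_C1_iff.1 ((eq_of_card_le inf_le_left (by rw [← e, this, S.cardZ])).ge.trans inf_le_right)⟩

theorem inv_eq (hx : x * x = 1) (hy : y * y = 1) (x1 : x ≠ 1) (y1 : y ≠ 1) (h : x * y = y * x) (h1 : x • c = c)
    (h2 : y • c = c) : x = y := by
  have := S.finite
  have pg : ∀ {x : G}, x * x = 1 → PiG {2} (zpowers x) := fun h =>
    pig_zpowers.2 (pie_of_pow Nat.prime_two (by rw [sq, h]))
  have l : zpowers x ⊔ zpowers y ≤ stabilizer G c := sup_le (zpowers_le.2 h1) (zpowers_le.2 h2)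
  obtain ⟨c', hc, e⟩ := exists_fixed_of_not_dvd Nat.prime_two ((pg hx).sup_l (pg hy)
    (norm_zpowers (zpowers_le.2 (mem_C1'.2 h)))) (X := {c}ᶜ)
    (fun r hr d hd e => hd (smul_left_cancel r (e.trans (l hr).symm))) (by
      have e1 := S.ncard_fix bot_le
      have e2 := Set.ncard_add_ncard_compl ({c} : Set Ω)
      simp only [bot_le, Set.setOf_true, Set.ncard_univ, C_bot, inf_top_eq, Set.ncard_singleton] at e1 e2
      rw [show ({c}ᶜ : Set Ω).ncard = #U by omega]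
      exact S.oddU.not_two_dvd_nat)
  obtain ⟨g, rfl, rfl⟩ := S.tr2 (Ne.symm hc)
  have k : ∀ w ∈ zpowers x ⊔ zpowers y, w * w = 1 → w ≠ 1 → g⁻¹ * w * g = t := fun x h x2 x1 => S.uniq
    ⟨show _ • a = a by rw [mul_smul, mul_smul, l h, inv_smul_smul],
      show _ • b = b by rw [mul_smul, mul_smul, e x h, inv_smul_smul]⟩
    (by rw [show g⁻¹ * x * g * (g⁻¹ * x * g) = g⁻¹ * (x * x) * g by group, x2]; group)
    fun e => x1 (by rw [show x = g * (g⁻¹ * x * g) * g⁻¹ by group, e]; group)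
  simpa using (k x (mem_sup_left (mem_zpowers x)) hx x1).trans (k y (mem_sup_right (mem_zpowers y)) hy y1).symm

theorem semi (hY : Y ≤ 𝓗 ⊓ C1[s]) (h : ∀ y ∈ Y, y ≠ 1 → ∀ c : Ω, y • c = c → t • c = c) : #Y ∣ 𝓺 + 1 := by
  have := S.simple
  have := S.finite
  obtain ⟨g, g1, g2⟩ := exists_conj_comm (not_cyclic_of_sub (H := stabilizer G a)
    (fun e => S.ne (S.sa.symm.trans (e.ge (mem_top s)))) (ne_bot_of_mem S.tH.1 S.t1)) S.ot
  have o := ord2_iff.1 ((orderOf_conj' g t).trans S.ot)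
  obtain ⟨z, hz, e⟩ := S.trans _ fun e => g1 (S.inv_eq o.1 S.tt o.2 S.t1 g2.symm e S.tH.1)
  have zt := (S.fixt hz).1 (by rw [e, ← mul_smul, g2, mul_smul, S.tH.1])
  have e1 : z⁻¹ * g * t * (z⁻¹ * g)⁻¹ = z⁻¹ * (g * t * g⁻¹) * z := by group
  have j1 : (z⁻¹ * g * t * (z⁻¹ * g)⁻¹) • a = b := by rw [e1, mul_smul, S.fixU hz, mul_smul, ← e, inv_smul_smul]
  have j2 : t * (z⁻¹ * g * t * (z⁻¹ * g)⁻¹) = z⁻¹ * g * t * (z⁻¹ * g)⁻¹ * t :=
    e1 ▸ mem_C1'.1 (mul_mem (mul_mem (inv_mem zt.2) (mem_C1'.2 g2)) zt.2)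
  generalize z⁻¹ * g = g at j1 j2
  replace o := ord2_iff.1 ((orderOf_conj' g t).trans S.ot)
  have j3 : (g * t * g⁻¹) • b = a := by rw [← j1, ← mul_smul, o.1, one_smul]
  have cm : ∀ y ∈ Y, y * (g * t * g⁻¹) = g * t * g⁻¹ * y := fun y hy => by
    rw [← mul_inv_cancel_left s (g * t * g⁻¹), ← mul_assoc, mem_C1.1 (hY hy).2, mul_assoc,
      S.comm (hY hy).1 (S.swapH S.sa S.sb j1 j3), ← mul_assoc]
  rw [← S.ncardΔ, ← Set.ncard_smul_set g]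
  refine card_dvd_of_free_act (Set.toFinite _) (fun y hy c hc => ?_) fun y hy c hc e => by_contra fun y1 => ?_ <;>
    rw [Set.mem_smul_set_iff_inv_smul_mem, Set.mem_setOf_eq, ← conj_smul_fix] at *
  · rw [← mul_smul, ← cm y hy, mul_smul, hc]
  · exact S.ne (by rw [← j1, S.inv_eq o.1 S.tt o.2 S.t1 j2.symm hc (h y hy y1 c e), S.tH.1])

theorem sC (hx : x ∈ 𝓗) (h : U ⊓ C1[x] ≠ ⊥) : N[zpowers x] ≤ C1[x] :=
  C_zpowers x ▸ S.NC (zpowers_le.2 hx) (by rwa [C_zpowers])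

theorem Ws : 𝓦 ≤ C1[s] := fun x hx => C1_symm (S.sC hx.1 (fun e => S.Zne (eq_bot_iff.2 (e ▸
  le_inf inf_le_left (le_C1_iff.2 hx.2)))) (S.sN (zpowers_le.2 hx.1)))

theorem cop : (Nat.gcd 3 (𝓺 + 1)).Coprime (𝓺 - 1) := by
  refine Nat.eq_one_of_dvd_coprimes (by decide : Nat.Coprime 3 2)
    ((Nat.gcd_dvd_left _ _).trans (Nat.gcd_dvd_left _ _)) ?_
  have := S.q3
  exact (Nat.dvd_sub ((Nat.gcd_dvd_left _ _).trans (Nat.gcd_dvd_right _ _)) (Nat.gcd_dvd_right _ _)).trans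
    (dvd_of_eq (by omega))

theorem Ztrans {z' : G} (hz : z ∈ 𝓩) (z1 : z ≠ 1) (hz' : z' ∈ 𝓩) (z1' : z' ≠ 1) :
    (∃ d ∈ 𝓗, d * z * d⁻¹ = z') ∧ Nat.gcd 3 (𝓺 + 1) * #𝓦 = 𝓺 + 1 := by
  obtain ⟨m, m1, -, m2⟩ := S.cardH'
  obtain ⟨e, he⟩ := S.semi (le_inf inf_le_left S.Ws) fun y hy y1 c => S.fixW hy y1
  have e1 := card_inf_mul_relIndex C1[z] 𝓗
  rw [show C1[z] ⊓ 𝓗 = 𝓦 from le_antisymm (fun x hx => S.memW hx.2 hz z1 (C1_symm hx.1))
    (le_inf (inf_le_right.trans (C_le_C1 hz)) inf_le_left), m2] at e1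
  have sub : (fun g => g * z * g⁻¹) '' (𝓗 : Subgroup G) ⊆ (𝓩 : Subgroup G) \ {1} := by
    rintro _ ⟨g, hg, rfl⟩; exact ⟨conj_mem (S.normZ' hg) hz, fun e => z1 (conj_eq_one_iff.1 e)⟩
  have e2 : (((𝓩 : Subgroup G) : Set G) \ {1}).ncard = 𝓺 - 1 := by
    rw [Set.ncard_diff_singleton_of_mem (one_mem _), ← S.cardZ]; rfl
  have e3 : C1[z].relIndex 𝓗 = 𝓺 - 1 := le_antisymm (by rw [relIndex_C1, ← e2]; exact Set.ncard_le_ncard sub)
    (Nat.le_of_dvd (relIndex_pos _ _) (S.cop.symm.dvd_of_dvd_mul_left ⟨e, Nat.eq_of_mul_eq_mul_left (card_pos 𝓦) (by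
      rw [mul_left_comm, e1, mul_left_comm, ← m1, he]; ring)⟩))
  refine ⟨(Set.eq_of_subset_of_ncard_le sub (by rw [e2, ← e3, relIndex_C1])).ge ⟨hz', z1'⟩, ?_⟩
  have := S.q3
  rw [e3, mul_comm] at e1
  rw [Nat.eq_of_mul_eq_mul_left (by omega) e1, ← m1]

theorem cardW : Nat.gcd 3 (𝓺 + 1) * #𝓦 = 𝓺 + 1 :=
  have ⟨z, hz, z1⟩ := exists_mem_ne_one S.Zne
  (S.Ztrans hz z1 hz z1).2

theorem irr (hV : V ≤ 𝓩) (h : ∀ d ∈ 𝓗, ∀ u ∈ V, d * u * d⁻¹ ∈ V) : V = ⊥ ∨ V = 𝓩 := (em _).imp_right fun e => by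
  obtain ⟨v, hv, v1⟩ := exists_mem_ne_one e
  refine le_antisymm hV fun z hz => ?_
  by_cases z1 : z = 1
  · exact z1 ▸ one_mem _
  obtain ⟨d, hd, rfl⟩ := (S.Ztrans (hV hv) v1 hz z1).1
  exact h d hd v hv

theorem Zab : Abel 𝓩 := ((S.irr inf_le_left (le_N_iff.1 (normZ S.normZ'))).resolve_left
  ((S.pU.of_le inf_le_left).nil.Z_ne_bot S.Zne)).ge.trans inf_le_right

theorem Zcent : 𝓩 ≤ C[U] := by
  refine ((S.irr inf_le_left (le_N_iff.1 (normI S.normZ' (normC S.normH)))).resolve_left fun e => ?_).ge.trans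
    inf_le_right
  have e0 : Z[U] ⊓ C1[t] = ⊥ := by rw [inf_right_comm, e]
  have d := S.dvd_sub inf_le_left (normZ S.normH) e0
  have q3 := S.q3
  obtain ⟨k, hk⟩ := (S.pU.of_le (inf_le_left (b := C[U]))).card_pow S.hp
  have h1 := Nat.gcd_eq_left ((dvd_mul_left _ 2).trans d)
  rw [hk, Nat.pow_sub_one_gcd_pow_sub_one] at h1
  obtain ⟨j, rfl⟩ : n ∣ k := Nat.gcd_eq_left_iff_dvd.1 (Nat.pow_right_injective S.hp.two_le (by
    have := pow_pos S.hp.pos (n.gcd k)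
    simp only; omega))
  have sd := sdprod_sup (K := Z[U]) (H := 𝓩) (eq_bot_iff.2 (e0 ▸ inf_le_inf_left _ inf_le_right))
    (inf_le_left.trans (normZ (normG U)))
  have l : Z[U] ⊔ 𝓩 ≤ U := sup_le inf_le_left inf_le_left
  have h2 := card_le l
  rw [← sd.card, hk, S.cardZ, S.card, pow_mul, ← pow_succ, Nat.pow_le_pow_iff_right (by omega)] at h2
  rw [hk, pow_mul] at d
  obtain rfl | rfl | rfl : j = 0 ∨ j = 1 ∨ j = 2 := by omega
  · exact S.pU.nil.Z_ne_bot (fun e => S.Zne (by rw [e, bot_inf_eq])) (card_eq_one.1 (by simpa using hk))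
  · rw [pow_one] at d; have := Nat.le_of_dvd (by omega) d; omega
  have := eq_of_card_le l (by rw [← sd.card, hk, S.cardZ, S.card, pow_mul, ← pow_succ])
  exact S.Zne (e.symm ▸ (inf_eq_left.2 ((centY (cent_symm (inf_le_right.trans (centS inf_le_left))) S.Zab).trans
    (centS this.ge))).symm)

theorem Zc (hz : z ∈ 𝓩) (hu : u ∈ U) : z * u = u * z := mem_C_comm S.Zcent hz hu

/-- an element acting on `Z` as inversion does not commute with `s` -/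
theorem neg_not (hx : x ∈ 𝓗) (h : ∀ z ∈ 𝓩, x * z * x⁻¹ = z⁻¹) : x ∉ C1[s] := fun xs => by
  have xW : x ∉ 𝓦 := fun e => by
    obtain ⟨z, hz, z1⟩ := exists_mem_ne_one S.Zne
    have := h z hz
    rw [← e.2 z hz, mul_inv_cancel_right] at this
    exact z1 (sq_inj_of_odd (S.oddU.of_dvd_nat (orderOf_dvd hz.1)) (by simp) (by
      rw [mul_one]; exact mul_eq_one_iff_eq_inv.2 this))
  have x2 : x * x ∈ 𝓦 := ⟨mul_mem hx hx, mem_C.2 fun z hz => (mul_inv_eq_iff_eq_mul.1 (by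
    rw [show x * x * z * (x * x)⁻¹ = x * (x * z * x⁻¹) * x⁻¹ by group, h z hz, h _ (inv_mem hz), inv_inv])).symm⟩
  have YH : 𝓦 ⊔ zpowers x ≤ 𝓗 := sup_le inf_le_left (zpowers_le.2 hx)
  have nW : 𝓦 ⊔ zpowers x ≤ N[𝓦] := YH.trans (abel_norm S.cyc.abel inf_le_left)
  have od : ∀ y ∈ 𝓦 ⊔ zpowers x, ∀ k, Odd k → y ^ k ∈ 𝓦 → y ∈ 𝓦 := fun y hy k ⟨j, e⟩ hk => by
    obtain ⟨w, hw, x', hx', rfl⟩ := (mem_sup_l (le_sup_right.trans nW)).1 hy
    obtain ⟨i, rfl⟩ := mem_powers_iff_mem_zpowers.2 hx'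
    have : (w * x ^ i) ^ 2 ∈ 𝓦 := by
      rw [Commute.mul_pow (S.comm hw.1 (pow_mem hx i)), ← pow_mul, mul_comm i, pow_mul, sq x]
      exact mul_mem (pow_mem hw 2) (pow_mem x2 i)
    rwa [e, pow_succ, pow_mul, mul_mem_cancel_left (pow_mem this j)] at hk
  have d := S.semi (le_inf YH (sup_le S.Ws (zpowers_le.2 xs))) fun y hy y1 c e => by
    rcases Nat.even_or_odd (orderOf y) with o | o
    · obtain ⟨w, hw, w2⟩ := cauchy (A := zpowers y) Nat.prime_two (card_zpowers' y ▸ o.two_dvd)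
      exact S.uniq (zpowers_le.2 (YH hy) hw) (ord2_iff.1 w2).1 (ord2_iff.1 w2).2 ▸
        (zpowers_le.2 (mem_stabilizer_iff.2 e) hw :)
    · exact S.fixW (od y hy _ o (by rw [pow_orderOf_eq_one]; exact one_mem _)) y1 e
  rw [← S.cardW, ← card_mul_relIndex (le_sup_left (b := zpowers x)), mul_comm,
    Nat.mul_dvd_mul_iff_right (card_pos _)] at d
  have m := mem_sup_right (S := 𝓦) (mem_zpowers x)
  exact xW (od x m _ ((by decide : Odd 3).of_dvd_nat (d.trans (Nat.gcd_dvd_left _ _))) (pow_relIndex_mem nW m))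

end UT

end Cfsg.Agent.UO
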