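import Cfsg.Agent.UO.B
import Cfsg.Agent.Inv.U3e

/-! Odd unitary type: the subgroup `SL₂(q)` of the centralizer of `t`. -/

set_option autoImplicit false
set_option linter.unusedVariables false
set_option linter.unusedSectionVars false
set_option quotPrecheck false

namespace Cfsg.Agent.UO

open Subgroup MulAction Cfsg.Agent.BG Cfsg.Agent.Inv Cfsg.Agent.Lie
open scoped MatrixGroups

theorem phi_inv {F : Type*} [Field F] (two : (2 : F) ≠ 0) {φ : F → F} (h0 : ∀ y, y ≠ 0 → φ y ≠ 0)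
    (hm : ∀ x y, x ≠ 0 → y ≠ 0 → φ (x * y) = φ x * φ y) (hi : ∀ y, y ≠ 0 → φ (φ y) = y)
    (hb : ∀ y, y ≠ 0 → y ≠ 1 → φ (1 - φ y) = 1 - φ (1 - y)) {y : F} (hy : y ≠ 0) : φ y = y⁻¹ := by
  have h1 : φ 1 = 1 := by
    have := hm 1 1 one_ne_zero one_ne_zero
    have := h0 1 one_ne_zero
    grind
  have n1 : (-1 : F) ≠ 0 := by simp
  have hn : φ (-1) = -1 := by
    have := hm _ _ n1 n1
    have := hi _ n1
    grind
  have fx : ∀ y, y ≠ 0 → y ≠ 1 → φ y = y → y = 1 - φ 2⁻¹ := fun y y0 y1 e => by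
    have := hb y y0 y1
    rw [← show φ (1 - y) = 2⁻¹ by grind, hi _ (by grind)]; ring
  have f2 : ∀ y, y ≠ 0 → φ y * y = 1 ∨ φ y * y = -1 := fun y y0 => (em _).imp_right fun e =>
    (fx _ (mul_ne_zero (h0 y y0) y0) e (by rw [hm _ _ (h0 y y0) y0, hi y y0, mul_comm])).trans
      (fx _ n1 (by grind) hn).symm
  have key : ∀ y, y ≠ 0 → φ y * y = -1 → y * y - y - 1 = 0 := fun y y0 e => by
    have y1 : y ≠ 1 := by grind
    have := hi y y0
    have a1 := f2 (1 - φ y) (by grind)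
    have a2 := f2 (1 - y) (by grind)
    rw [hb y y0 y1] at a1
    grind
  refine eq_inv_of_mul_eq_one_left ((f2 y hy).resolve_right fun e => ?_)
  have a1 := key y hy e
  have a2 := key (-1 * y) (by simpa) (by rw [hm _ _ n1 hy, hn]; grind)
  grind

section
variable {F : Type*} [Field F]

/-- conjugation by `diag(κ, 1)` -/
def dcj (κ : Fˣ) (M : SL(2, F)) : SL(2, F) := ⟨!![M 0 0, κ * M 0 1; (κ : F)⁻¹ * M 1 0, M 1 1], by
  rw [Matrix.det_fin_two_of]; field_simp; exact PLoc.sl2_det M⟩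

@[simp] theorem coe_dcj (κ : Fˣ) (M : SL(2, F)) :
    (dcj κ M).1 = !![M 0 0, κ * M 0 1; (κ : F)⁻¹ * M 1 0, M 1 1] := rfl

theorem dcj_mul (κ : Fˣ) (M N : SL(2, F)) : dcj κ (M * N) = dcj κ M * dcj κ N := by
  ext i j; fin_cases i <;> fin_cases j <;> simp [PLoc.sl2_mul] <;> field_simp

theorem dcj_sU (κ : Fˣ) (x : F) : dcj κ (sU x) = sU (κ * x) := by
  ext i j; fin_cases i <;> fin_cases j <;> simp

theorem dcj_sN (κ x : Fˣ) : dcj κ (sN x) = sN (κ * x) := by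
  ext i j; fin_cases i <;> fin_cases j <;> simp [mul_comm]

theorem dcj_one (M : SL(2, F)) : dcj 1 M = M := by
  ext i j; fin_cases i <;> fin_cases j <;> simp

theorem dcj_id (κ : Fˣ) : dcj κ 1 = 1 := by
  ext i j; fin_cases i <;> fin_cases j <;> simp

theorem sl2_le' {S : Submonoid SL(2, F)} (hU : ∀ t, sU t ∈ S) (hN : ∀ t, sN t ∈ S) (g : SL(2, F)) : g ∈ S := by
  rcases sl2_cases g with ⟨a, t, rfl⟩ | ⟨t, a, u, rfl⟩
  · exact mul_mem (sD_eq a ▸ mul_mem (hN _) (hN _)) (hU _)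
  · exact mul_mem (mul_mem (hU _) (hN _)) (hU _)

end

variable {G Ω : Type*} [Group G] [MulAction G Ω]

/-- `ρ` identifies `SL₂(F)` with the subgroup generated by `Z` and a conjugate -/
structure SLo (G : Type*) {Ω : Type*} [Group G] [MulAction G Ω] (a b : Ω) (U : Subgroup G) (p n : ℕ)
    (t : G) {F : Type} [Field F] (ρ : SL(2, F) →* G) : Prop extends UT G a b (ρ (sN 1)) U p n t where
  crd : Crd (U ⊓ C1[t]) (St2 G a b) fun x => ρ (sU x)
  neg : ρ (sD (-1)) = t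
  kD : ∀ κ, ρ (sD κ) ∈ St2 G a b
  cj : ∀ h ∈ St2 G a b, ∃ κ, ∀ M, h * ρ M * h⁻¹ = ρ (dcj κ M)
  sur : ∀ κ, ∃ h ∈ St2 G a b, ∀ M, h * ρ M * h⁻¹ = ρ (dcj κ M)
  two : (2 : F) ≠ 0

namespace UT

variable [Finite G] {a b : Ω} {s t : G} {U : Subgroup G} {p n : ℕ} (S : UT G a b s U p n t)
variable {u v d g x y z : G} {c : Ω}
include S

local notation "𝓗" => St2 G a b
local notation "𝓩" => U ⊓ C1[t]

theorem swap (h1 : g • a = b) (h2 : g • b = a) : UT G a b g U p n t := { S with sa := h1, sb := h2 }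

theorem fixs (hg : g ∈ C1[t]) (h : t • c = c) : t • g • c = g • c := by
  rw [← mul_smul, ← mem_C1.1 hg, mul_smul, h]

theorem st : s ∈ C1[t] := C1_symm (S.Ws S.tW)

variable {F : Type} [Field F] {e : F → G} (C : Crd (U ⊓ C1[t]) (St2 G a b) e)
include C

theorem einj {x y : F} (h : e x • b = e y • b) : x = y := C.inj (S.inj (C.mem x).1 (C.mem y).1 h)

theorem chi (hd : d ∈ 𝓗) {y κ : F} (y0 : y ≠ 0) (h : d • e y • b = e (κ * y) • b) (x : F) :
    d * e x * d⁻¹ = e (κ * x) := by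
  obtain ⟨c, hc⟩ := C.smul d hd
  rw [← S.conjb hd, hc] at h
  rw [hc, mul_right_cancel₀ y0 (S.einj C h)]

theorem chi_sur {κ : F} (h : κ ≠ 0) : ∃ d ∈ 𝓗, ∀ x, d * e x * d⁻¹ = e (κ * x) :=
  ((S.Ztrans (C.mem 1) (mt C.eq_one.1 one_ne_zero) (C.mem κ) (mt C.eq_one.1 h)).1).imp fun d h =>
    ⟨h.1, S.chi C h.1 one_ne_zero (by rw [← S.conjb h.1, h.2, mul_one])⟩

theorem two' : (2 : F) ≠ 0 := fun h => one_ne_zero (C.eq_one.1 (sq_inj_of_odd
  (S.oddU.of_dvd_nat (orderOf_dvd (C.mem 1).1)) (by simp) (by rw [← C.add, one_add_one_eq_two, h, C.zero, mul_one])))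

theorem sw {y : F} (y0 : y ≠ 0) : ∃ y', y' ≠ 0 ∧ s • e y • b = e y' • b := by
  obtain ⟨u, hu, h⟩ := S.trans (s • e y • b) fun h =>
    y0 (C.eq_one.1 (S.free _ (C.mem y).1 (smul_left_cancel s (h.trans S.sb.symm))))
  obtain ⟨y', rfl⟩ := C.surj u ((S.fixt hu).1 (h ▸ S.fixs S.st ((S.fixt (C.mem y).1).2 (C.mem y))))
  refine ⟨y', fun h0 => S.neU (C.mem y).1 (smul_left_cancel s ?_), h.symm⟩
  rw [← h, h0, C.zero, one_smul, S.sa]

theorem sinv (h1 : s • e 1 • b = e 1 • b) {y : F} (y0 : y ≠ 0) : s • e y • b = e y⁻¹ • b := by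
  choose! φ φ0 hφ using fun y (y0 : y ≠ 0) => S.sw C y0
  have fa : ∀ d ∈ 𝓗, d • e 1 • b = e 1 • b → ∀ y, d • e y • b = e y • b := fun d hd h y => by
    rw [← S.conjb hd, S.chi C hd one_ne_zero (by rwa [mul_one]), one_mul]
  have hi : ∀ y, y ≠ 0 → φ (φ y) = y := fun y y0 => S.einj C (by
    rw [← hφ _ (φ0 y y0), ← hφ y y0, ← mul_smul, fa _ ⟨show _ • a = a by rw [mul_smul, S.sa, S.sb],
      show _ • b = b by rw [mul_smul, S.sb, S.sa]⟩ (by rw [mul_smul, h1, h1])])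
  rw [hφ y y0, phi_inv (S.two' C) φ0 (fun x y x0 y0 => S.einj C ?_) hi (fun y y0 y1 => S.einj C ?_) y0]
  · obtain ⟨d, hd, h⟩ := S.chi_sur C x0
    have m := conj_mem (S.swapN S.sa S.sb) hd
    have k : ∀ y, (s * d * s⁻¹) • s • e y • b = s • e (x * y) • b := fun y => by
      rw [mul_smul, inv_smul_smul, mul_smul, ← S.conjb hd, h]
    rw [← hφ _ (mul_ne_zero x0 y0), ← k, hφ y y0, ← S.conjb m, S.chi C m (κ := φ x) one_ne_zero (by
      rw [← h1, k, mul_one, mul_one, hφ x x0])]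
  obtain ⟨m, hm, h⟩ := S.chi_sur C (neg_ne_zero.2 one_ne_zero)
  have τ : ∀ y, (e 1 * m) • e y • b = e (1 - y) • b := fun y => by
    rw [mul_smul, ← S.conjb hm, h, ← mul_smul, ← C.add, neg_one_mul, sub_eq_add_neg]
  have τa : (e 1 * m) • a = a := by rw [mul_smul, hm.1, S.fixU (C.mem 1).1]
  have τb : (e 1 * m) • b = e 1 • b := by rw [mul_smul, hm.2]
  have τ1 : (e 1 * m) • e 1 • b = b := by rw [τ, sub_self, C.zero, one_smul]
  generalize e 1 * m = τ' at *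
  have := fa ((τ' * s * τ')⁻¹ * (s * τ' * s)) ⟨show _ • a = a by
    simp only [mul_smul, inv_smul_eq_iff, S.sa, τa, τb, h1], show _ • b = b by
    simp only [mul_smul, inv_smul_eq_iff, S.sa, S.sb, τa, τb, h1, τ1]⟩ (by
    simp only [mul_smul, inv_smul_eq_iff, S.sb, τa, h1, τ1]) y
  rw [mul_smul, inv_smul_eq_iff] at this
  simp only [mul_smul, τ, hφ y y0, hφ _ (sub_ne_zero.2 y1.symm)] at this
  rwa [hφ _ (sub_ne_zero.2 fun e => y1 (by
    rw [← hi y y0, ← e]; exact S.einj C ((hφ 1 one_ne_zero).symm.trans h1)))] at this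

theorem exists_rho (h1 : s • e 1 • b = e 1 • b) : ∃ ρ : SL(2, F) →* G, SLo G a b U p n t ρ := by
  have si := fun y => S.sinv C h1 (y := y)
  have si' : ∀ y, y ≠ 0 → s⁻¹ • e y • b = e y⁻¹ • b := fun y y0 => by
    rw [inv_smul_eq_iff, si _ (inv_ne_zero y0), inv_inv]
  have ea : ∀ y, e y • a = a := fun y => S.fixU (C.mem y).1
  have ee : ∀ x y, ∀ c : Ω, e x • e y • c = e (x + y) • c := fun x y c => by rw [C.add, mul_smul]
  have sa' : s⁻¹ • a = b := smul_eq_iff_inv.1 S.sb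
  have sb' : s⁻¹ • b = a := smul_eq_iff_inv.1 S.sa
  let N : Fˣ → G := fun κ => e κ * (s * e (-(κ : F)⁻¹) * s⁻¹) * e κ
  have Na : ∀ κ, N κ • a = b := fun κ => by
    simp only [N, mul_smul, ea, sa', si _ (neg_ne_zero.2 (inv_ne_zero κ.ne_zero)), ee]
    simp [C.zero]
  have Nb : ∀ κ, N κ • b = a := fun κ => by
    simp only [N, mul_smul, si' _ κ.ne_zero, ee]
    simp [C.zero, S.sb, ea]
  have Ni : ∀ κ, N (-κ) = (N κ)⁻¹ := fun κ => by simp [N, C.neg, mul_assoc]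
  have NN : ∀ κ κ', N κ * (N κ')⁻¹ ∈ 𝓗 := fun κ κ' =>
    ⟨show _ • a = a by rw [mul_smul, ← Ni, Na, Nb], show _ • b = b by rw [mul_smul, ← Ni, Nb, Na]⟩
  have cN : ∀ d ∈ 𝓗, ∀ c : Fˣ, (∀ x, d * e x * d⁻¹ = e (c * x)) → ∀ κ, d * N κ * d⁻¹ = N (c * κ) :=
    fun d hd c h κ => by
      have := S.chi C (conj_mem' (S.swapN S.sa S.sb) hd) (κ := (c : F)⁻¹) one_ne_zero (by
        rw [mul_smul, mul_smul, h1, ← S.conjb hd, h, mul_one, mul_one, si' _ c.ne_zero]) (-(κ : F)⁻¹)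
      simp only [N, Units.val_mul, mul_inv, ← mul_neg, ← this, ← h]
      group
  have cH : ∀ c κ κ', N (c * κ) * (N (c * κ'))⁻¹ = N κ * (N κ')⁻¹ := fun c κ κ' => by
    obtain ⟨d, hd, h⟩ := S.chi_sur C c.ne_zero
    rw [← cN d hd c h, ← cN d hd c h, conj_inv, conj_mul, S.comm hd (NN _ _), mul_inv_cancel_right]
  have k1 : ∀ (κ : Fˣ) x, N κ * e x * (N κ)⁻¹ = s * e (-((κ : F) ^ 2)⁻¹ * x) * s⁻¹ := fun κ x => by
    rw [← S.chi C (S.swapH S.sa S.sb (Na κ) (Nb κ)) (neg_ne_zero.2 κ.ne_zero) (by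
      simp only [N, mul_smul, ee, add_neg_cancel, C.zero, one_smul, sb', ea, S.sa, si' _ κ.ne_zero]
      congr 2; field_simp)]
    group
  have k2 : ∀ (κ : Fˣ) y, y ≠ 0 → N κ • e y • b = e (-(κ : F) ^ 2 * y⁻¹) • b := fun κ y y0 => by
    have := congrArg (· • a) (k1 κ y)
    simp only [mul_smul, ← Ni, Na, sa'] at this
    rw [this, si _ (by simp [y0])]
    simp [mul_comm]
  have hHN : ∀ x y, N x * (N 1)⁻¹ * N y = N (x * y) := fun x y => by
    rw [← cH y, mul_one, inv_mul_cancel_right, mul_comm]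
  have hNN : ∀ x y, N x * N y = N (-x * y⁻¹) * (N 1)⁻¹ := fun x y => by
    rw [← cH (-y), mul_one, Ni, inv_inv]; congr 2; simp
  obtain ⟨ρ, r1, r2⟩ := exists_sl2 e N (fun κ => N κ * (N 1)⁻¹) (fun x y => (C.add x y).symm) (by simp)
    (fun κ u => by
      rw [← S.chi C (NN κ 1) one_ne_zero (by
        rw [mul_smul, ← Ni, k2 _ _ one_ne_zero, k2 _ _ (by simp)]; simp), inv_mul_cancel_right]) hNN hHN
    (fun x y => by
      rw [← mul_assoc, hNN, show N (-x * y⁻¹) * (N 1)⁻¹ * (N 1)⁻¹ = N (-x * y⁻¹ * -1) by rw [← hHN _ (-1), Ni 1]]; simp)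
    (fun x y => by
      rw [k1]; simp only [N, C.neg]
      simp [mul_assoc, div_eq_mul_inv, mul_comm, C.neg])
  have r3 : ∀ κ, ρ (sD κ) = N κ * (N 1)⁻¹ := fun κ => by rw [sD_eq, map_mul, r2, r2, Ni]
  have cj : ∀ d ∈ 𝓗, ∀ c : Fˣ, (∀ x, d * e x * d⁻¹ = e (c * x)) → ∀ M, d * ρ M * d⁻¹ = ρ (dcj c M) :=
    fun d hd c h => sl2_le' (S := {
      carrier := {M | d * ρ M * d⁻¹ = ρ (dcj c M)}
      one_mem' := by simp [dcj_id]
      mul_mem' := fun {x y} hx hy => by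
        rw [Set.mem_setOf_eq, dcj_mul, map_mul, map_mul, ← conj_mul, hx, hy] })
      (fun x => show _ = _ by rw [dcj_sU, r1, r1, h]) fun x => show _ = _ by rw [dcj_sN, r2, r2, cN d hd c h]
  have S' := S.swap (Na 1) (Nb 1)
  refine ⟨ρ, r2 1 ▸ S', by simpa only [r1] using C, S.uniq (r3 _ ▸ NN _ _) ?_ ?_, fun κ => r3 _ ▸ NN _ _,
    fun d hd => ?_, fun κ => (S.chi_sur C κ.ne_zero).imp fun d h => ⟨h.1, cj d h.1 κ h.2⟩, S.two' C⟩
  · rw [r3, ← mul_assoc, hHN]; simp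
  · obtain ⟨m, hm, h⟩ := S.chi_sur C (-1 : Fˣ).ne_zero
    refine fun e1 => S'.neg_not hm (fun z hz => ?_) (mem_C1.2 (mul_inv_eq_iff_eq_mul.1 ?_))
    · obtain ⟨x, rfl⟩ := C.surj z hz
      rw [h, ← C.neg]; simp
    · rw [cN m hm _ h, mul_one, ← mul_inv_eq_one, ← r3, e1]
  · obtain ⟨c, hc⟩ := C.smul d hd
    exact ⟨Units.mk0 c fun h => one_ne_zero (C.eq_one.1 (by simpa [h, C.zero] using hc 1)), cj d hd _ hc⟩

omit C in
theorem exists_SLo : ∃ (F : Type) (_ : Field F) (_ : Fintype F) (ρ : SL(2, F) →* G), SLo G a b U p n t ρ := by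
  obtain ⟨v, hv, v1⟩ := exists_mem_ne_one S.Zne
  obtain ⟨F, _, _, e, C, -⟩ := exists_Crd (S := 𝓗)
    (PLoc.isMulCommutative_of_forall fun x hx y hy => S.Zc hx hy.1)
    (PLoc.isMulCommutative_of_forall fun x hx y hy => S.comm hx hy) S.normZ' (fun V => S.irr) hv v1
  obtain ⟨y, y0, h⟩ := S.sw C one_ne_zero
  obtain ⟨d, hd, h'⟩ := S.chi_sur C (inv_ne_zero y0)
  exact ⟨F, inferInstance, inferInstance, (S.swap (g := d * s) (by rw [mul_smul, S.sa, hd.2])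
    (by rw [mul_smul, S.sb, hd.1])).exists_rho C (by rw [mul_smul, h, ← S.conjb hd, h', inv_mul_cancel₀ y0])⟩

end UT

end Cfsg.Agent.UO
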