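import Cfsg.Agent.UO.C

/-! Odd unitary type: `SL₂(q)` is regular on the points moved by `t`; coordinates. -/

set_option autoImplicit false
set_option linter.unusedVariables false
set_option linter.unusedSectionVars false
set_option quotPrecheck false

namespace Cfsg.Agent.UO

open Subgroup MulAction Cfsg.Agent.BG Cfsg.Agent.Inv Cfsg.Agent.Lie
open scoped MatrixGroups

theorem exists_eigen {F : Type} [Field F] [Finite F] (two : (2 : F) ≠ 0) {m0 m1 m2 m3 : F} (h0 : m2 ≠ 0)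
    (h : ∀ r, m0 * r + m1 ≠ r * (m2 * r + m3)) :
    ∃ (E : Type) (_ : Field E) (ι : F →+* E) (σ : E →+* E) (x l δ : E), Class.UF σ (Nat.card F) ∧
      (∀ r, σ (ι r) = ι r) ∧ (∀ z, σ z = z → ∃ r, ι r = z) ∧ δ * (x - σ x) = -1 ∧
      ι m0 * x + ι m1 = l * x ∧ ι m2 * x + ι m3 = l := by
  set α := m1 / m2 with hα
  set β := (m0 - m3) / m2 with hβ
  have : Fact (∀ r, r ^ 2 ≠ α + β * r) := ⟨fun r e => h r (by grind)⟩
  let E := QuadraticAlgebra F α β
  have : Finite E := .of_equiv _ (QuadraticAlgebra.equivProd α β).symm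
  let σ : E →+* E := starRingEnd E
  have σr : ∀ z, (σ z).re = z.re + β * z.im := fun z => QuadraticAlgebra.re_star z
  have σi : ∀ z, (σ z).im = -z.im := fun z => QuadraticAlgebra.im_star z
  have σι : ∀ r, σ (algebraMap F E r) = algebraMap F E r := fun r => by
    ext <;> simp [σr, σi, E]
  have fx : ∀ z, σ z = z → z.im = 0 := fun z hz => by
    have := σi z
    rw [hz] at this
    grind
  have w0 : (QuadraticAlgebra.omega : E) - σ QuadraticAlgebra.omega ≠ 0 := fun e => by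
    simpa using fx _ (sub_eq_zero.1 e).symm
  obtain ⟨q, hq⟩ := Class.exists_UF_of_invol (σ := σ) (fun a => star_star a) fun e => w0 (by simp [e])
  obtain rfl : q = Nat.card F := Nat.pow_left_injective two_ne_zero (show q ^ 2 = _ ^ 2 by
    rw [← hq.card, Nat.card_congr (QuadraticAlgebra.equivProd α β), Nat.card_prod, sq])
  have ww : (QuadraticAlgebra.omega * QuadraticAlgebra.omega : E) = algebraMap F E α + algebraMap F E β * _ :=
    QuadraticAlgebra.omega_mul_omega_eq_algebraMap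
  refine ⟨E, inferInstance, algebraMap F E, σ, QuadraticAlgebra.omega, _, -(_ - _)⁻¹, hq, σι,
    fun z hz => ⟨z.re, by ext <;> simp [fx z hz, E]⟩, by rw [neg_mul, inv_mul_cancel₀ w0], ?_, rfl⟩
  have a1 : algebraMap F E α * algebraMap F E m2 = algebraMap F E m1 := by
    rw [← map_mul, div_mul_cancel₀ _ h0]
  have a2 : algebraMap F E β * algebraMap F E m2 = algebraMap F E m0 - algebraMap F E m3 := by
    rw [← map_mul, div_mul_cancel₀ _ h0, map_sub]
  linear_combination (-algebraMap F E m2) * ww - a1 - QuadraticAlgebra.omega * a2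

variable {G Ω : Type*} [Group G] [MulAction G Ω]

namespace SLo

variable [Finite G] {a b : Ω} {t : G} {U : Subgroup G} {p n : ℕ} {F : Type} [Field F] {ρ : SL(2, F) →* G}
  (S : SLo G a b U p n t ρ)
variable {u v h g x y z : G} {c d : Ω} {M N : SL(2, F)}
include S

local notation "𝓗" => St2 G a b
local notation "𝓩" => U ⊓ C1[t]
local notation "𝓺" => p ^ n

theorem eU (x : F) : ρ (sU x) ∈ U := (S.crd.mem x).1

theorem ct (M : SL(2, F)) : ρ M ∈ C1[t] := mem_C1.2 (by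
  rw [← S.neg, ← map_mul, ← map_mul]
  congr 1
  ext i j; fin_cases i <;> fin_cases j <;> simp [PLoc.sl2_mul])

theorem Δg (hg : g ∈ C1[t]) : t • g • c = g • c ↔ t • c = c := by
  rw [← mul_smul, ← mem_C1.1 hg, mul_smul, smul_left_cancel_iff]

theorem nΔ (M : SL(2, F)) (hc : t • c ≠ c) : t • ρ M • c ≠ ρ M • c := mt (S.Δg (S.ct M)).1 hc

theorem sN_eq' (κ : Fˣ) : ρ (sN κ) = ρ (sD κ) * ρ (sN 1) := by
  rw [← map_mul]
  congr 1
  ext i j; fin_cases i <;> fin_cases j <;> simp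

theorem fix_a (h : ρ M • a = a) : ∃ κ x, M = sD κ * sU x := by
  refine (sl2_cases M).resolve_right ?_
  rintro ⟨x, κ, y, rfl⟩
  rw [map_mul, map_mul, S.sN_eq', mul_smul, S.fixU (S.eU y), mul_smul, mul_smul, S.sa, (S.kD κ).2] at h
  exact S.neU (S.eU x) h

theorem fix_a' (h : M 1 0 = 0) : ρ M • a = a := by
  rcases sl2_cases M with ⟨κ, x, rfl⟩ | ⟨x, κ, y, rfl⟩
  · rw [map_mul, mul_smul, S.fixU (S.eU x), (S.kD κ).1]
  · simp at h

theorem fix_b' (h : M 0 1 = 0) : ρ M • b = b := by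
  have := S.fix_a' (M := (sN 1)⁻¹ * M * sN 1) (by simp [PLoc.sl2_mul, PLoc.sl2_inv_10, PLoc.sl2_inv_11, h])
  rwa [map_mul, map_mul, mul_smul, mul_smul, map_inv, inv_smul_eq_iff, S.sa] at this

theorem conj_sD (κ : Fˣ) (x : F) : ρ (sD κ) * ρ (sU x) * (ρ (sD κ))⁻¹ = ρ (sU (κ ^ 2 * x)) := by
  rw [mul_inv_eq_iff_eq_mul, ← map_mul, ← map_mul]
  congr 1
  ext i j; fin_cases i <;> fin_cases j <;> simp
  field_simp

theorem rinj : Function.Injective ρ := (injective_iff_map_eq_one ρ).2 fun M h => by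
  obtain ⟨κ, x, rfl⟩ := S.fix_a (M := M) (by rw [h, one_smul])
  rw [map_mul, mul_eq_one_iff_inv_eq] at h
  have h1 := S.free _ (S.eU x) (h ▸ (inv_mem (S.kD κ)).2)
  have h3 := S.conj_sD κ 1
  rw [h1, inv_eq_one] at h
  rw [h, one_mul, inv_one, mul_one] at h3
  have h4 := S.crd.inj h3
  rcases (show (κ : F) = 1 ∨ (κ : F) = -1 by grind) with h4 | h4
  · rw [S.crd.eq_one.1 h1]
    ext i j; fin_cases i <;> fin_cases j <;> simp [h4]
  · exact absurd (by rw [← S.neg, ← h, show κ = -1 from Units.ext h4]) S.t1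

theorem cardF : Nat.card F = 𝓺 := S.crd.card.symm.trans S.cardZ

theorem memΔ (h : t • c = c) : c = a ∨ ∃ x, ρ (sU x) • b = c := (S.cases c).imp_right fun ⟨u, hu, e⟩ =>
  (S.crd.surj u ((S.fixt hu).1 (by rwa [e]))).imp fun x e' => by rw [← e, ← e']

theorem trΔ (h : t • c = c) : ∃ M, ρ M • a = c := by
  rcases S.memΔ h with rfl | ⟨x, rfl⟩
  exacts [⟨1, by simp⟩, ⟨sU x * sN 1, by rw [map_mul, mul_smul, S.sa]⟩]

theorem Hfix (hx : x ∈ 𝓗) (hc : t • c ≠ c) (h : x • c = c) : x = 1 := by_contra fun x1 => hc <| by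
  rcases S.cases c with rfl | ⟨u, hu, rfl⟩
  · exact S.tH.1
  by_cases u1 : u = 1
  · rw [u1, one_smul]; exact S.tH.2
  obtain ⟨κ, e⟩ := S.cj x hx
  have e1 := e (sN 1)
  rw [← mem_C1.1 (S.sC hx (ne_bot_of_mem ⟨hu, (S.fix_iff hx hu).1 h⟩ u1) (S.sN (zpowers_le.2 hx))),
    mul_inv_cancel_right, dcj_sN] at e1
  obtain rfl : κ = 1 := Units.ext (by simpa using (congrArg (· 0 1) (S.rinj e1)).symm)
  refine S.fixW ⟨hx, mem_C.2 fun z hz => ?_⟩ x1 h
  obtain ⟨r, rfl⟩ := S.crd.surj z hz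
  exact (mul_inv_eq_iff_eq_mul.1 ((e _).trans (by rw [dcj_one]))).symm

theorem fix2a (hg : g ∈ C1[t]) (hd : t • d ≠ d) (h1 : g • a = a) (h2 : g • d = d) : g = 1 := by
  obtain ⟨u, hu, hh⟩ := S.decN (zpowers_le.2 S.tH) (C_le_N _ (C_zpowers t ▸ hg)) h1
  rw [C_zpowers] at hu
  obtain ⟨x, rfl⟩ := S.crd.surj u hu
  obtain ⟨h, rfl⟩ : ∃ h, g = ρ (sU x) * h := ⟨_, (mul_inv_cancel_left _ _).symm⟩
  rw [inv_mul_cancel_left] at hh
  obtain ⟨κ, e⟩ := S.cj h hh
  by_cases k1 : κ = 1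
  · have c : Commute (ρ (sU x)) h := (mul_inv_eq_iff_eq_mul.1 ((e _).trans (by rw [k1, dcj_one]))).symm
    have h3 : (ρ (sU x) * h) ^ 𝓺 • d = d := pow_mem (mem_stabilizer_iff.2 h2) _
    rw [c.mul_pow, orderOf_dvd_iff_pow_eq_one.1 (S.cardZ ▸ orderOf_dvd hu), one_mul] at h3
    have := Nat.dvd_sub ((orderOf_dvd_of_pow_eq_one (S.Hfix (pow_mem hh _) hd h3)).trans (dvd_pow_self _ two_ne_zero))
      ((orderOf_dvd hh).trans ((dvd_mul_left _ _).trans S.cardH.dvd))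
    rw [Nat.sub_sub_self (Nat.one_le_pow _ _ S.qodd.pos), Nat.dvd_one, orderOf_eq_one_iff] at this
    rw [this, mul_one] at h2 ⊢
    obtain ⟨v, hv, rfl⟩ := S.trans d fun e => hd (e ▸ S.tH.1)
    simpa using S.inj (mul_mem hu.1 hv) hv (by rwa [mul_smul])
  have k2 : 1 - (κ : F) ≠ 0 := sub_ne_zero.2 fun e => k1 (Units.ext e.symm)
  rw [show ρ (sU x) * h = ρ (sU (x / (1 - κ))) * h * (ρ (sU (x / (1 - κ))))⁻¹ by
    rw [← S.crd.neg, mul_assoc, mul_inv_eq_iff_eq_mul.1 (e _), dcj_sU, ← mul_assoc, ← S.crd.add]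
    congr 3; field_simp; ring, conj_smul_fix, ← map_inv] at h2
  have := e (sU 1)
  rw [S.Hfix hh (S.nΔ _ hd) h2, one_mul, inv_one, mul_one, dcj_sU] at this
  exact absurd (Units.ext (by simpa using (S.crd.inj this).symm)) k1

theorem fix2 (hg : g ∈ C1[t]) (hc : t • c = c) (hd : t • d ≠ d) (h1 : g • c = c) (h2 : g • d = d) : g = 1 := by
  obtain ⟨M, rfl⟩ := S.trΔ hc
  have := S.fix2a (mul_mem (mul_mem (S.ct M⁻¹) hg) (S.ct M)) (S.nΔ M⁻¹ hd)
    (by rw [mul_smul, mul_smul, h1, map_inv, inv_smul_smul]) (by rw [mul_smul, mul_smul, map_inv, smul_inv_smul, h2])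
  rwa [map_inv, mul_assoc, inv_mul_eq_one, eq_comm, mul_eq_right] at this

theorem rfree (hc : t • c ≠ c) (h : ρ M • c = c) : M = 1 := by
  have := S.finite
  refine S.rinj (map_one ρ ▸ by_contra fun e => ?_)
  obtain ⟨y, hy, py⟩ := exists_prime_pow_mem e
  have h1 : y • c = c := zpowers_le.2 (mem_stabilizer_iff.2 h) hy
  obtain ⟨M, rfl⟩ : y ∈ ρ.range := zpowers_le.2 (show ρ M ∈ ρ.range from ⟨M, rfl⟩) hy
  have y1 : ρ M ≠ 1 := fun e => py.one_lt.ne' (by rw [e, orderOf_one])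
  have yC : zpowers (ρ M) ≤ C1[t] := zpowers_le.2 (S.ct M)
  have nf : ∀ y ∈ zpowers (ρ M), ∀ d : Ω, t • d = d → y • d = d → y = 1 := fun y hy d hd e =>
    S.fix2 (yC hy) hd hc e (zpowers_le.2 (mem_stabilizer_iff.2 h1) hy)
  obtain ⟨g, g1, g2⟩ := S.tr2 hc.symm
  have hx : g⁻¹ * ρ M * g ∈ 𝓗 := ⟨show _ • a = a by rw [mul_smul, mul_smul, g1, h1, ← g1, inv_smul_smul],
    show _ • b = b by rw [mul_smul, mul_smul, g2, ← mul_smul _ t, mem_C1.1 (S.ct M), mul_smul, h1, ← g2, inv_smul_smul]⟩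
  have ox := orderOf_conj'' g (ρ M)
  by_cases h2 : U ⊓ C1[g⁻¹ * ρ M * g] = ⊥
  · have d1 := (semireg_of_prime (by rwa [card_zpowers', ox]) (by rwa [C_zpowers])).card_dvd
      ((zpowers_le.2 hx).trans S.normH)
    have d2 := card_dvd_of_free_act (X := {c : Ω | t • c = c}) (Set.toFinite _) (fun y hy d => (S.Δg (yC hy)).2) nf
    rw [card_zpowers', S.ncardΔ] at d2
    rw [card_zpowers', ox, S.card] at d1
    obtain ⟨k, hk⟩ := S.qodd
    rw [hk] at d1 d2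
    rw [show (2 * k + 1) ^ 3 - 1 = 2 * k * (4 * k ^ 2 + 6 * k + 3) from Nat.sub_eq_of_eq_add (by ring)] at d1
    have d3 := (Nat.dvd_add_right d1).1 ((d2.mul_right (4 * k ^ 2 + 2 * k + 1)).trans
      (dvd_of_eq (show _ = _ + 2 by ring)))
    rw [Nat.prime_dvd_prime_iff_eq py Nat.prime_two, ← ox, ord2_iff] at d3
    exact S.Zne (S.uniq hx d3.1 d3.2 ▸ h2)
  have m0 : M 1 0 ≠ 0 := fun e => y1 (nf _ (mem_zpowers _) a S.tH.1 (S.fix_a' e))
  obtain ⟨m, hm, e1⟩ := S.sur (-1)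
  have e2 : ρ (sU ((M 0 0 - M 1 1) / M 1 0)) * m * ρ M * (ρ (sU ((M 0 0 - M 1 1) / M 1 0)) * m)⁻¹ = (ρ M)⁻¹ := by
    rw [mul_inv_eq_iff_eq_mul, mul_assoc, mul_inv_eq_iff_eq_mul.1 (e1 M), ← mul_assoc, ← mul_assoc, ← map_inv,
      ← map_mul, ← map_mul]
    congr 2
    have := PLoc.sl2_det M
    refine PLoc.sl2_ext ?_ ?_ ?_ ?_ <;>
      simp [PLoc.sl2_mul, PLoc.sl2_inv_00, PLoc.sl2_inv_01, PLoc.sl2_inv_10, PLoc.sl2_inv_11] <;> field_simp <;> grind
  generalize ρ (sU ((M 0 0 - M 1 1) / M 1 0)) * m = w at e2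
  have e3 : g⁻¹ * w * g * (g⁻¹ * ρ M * g) * (g⁻¹ * w * g)⁻¹ = (g⁻¹ * ρ M * g)⁻¹ := by
    rw [show (g⁻¹ * ρ M * g)⁻¹ = g⁻¹ * (ρ M)⁻¹ * g by group, ← e2]; group
  rw [mem_C1.1 (S.sC hx h2 (mem_N_of fun x hx => by
    obtain ⟨k, rfl⟩ := hx
    simp only [← conj_zpow, e3]
    exact zpow_mem (inv_mem (mem_zpowers _)) k)), mul_inv_cancel_right, eq_inv_iff_mul_eq_one] at e3
  have e4 : M ^ 2 = 1 := S.rinj (by
    rw [map_pow, map_one, ← conj_eq_one_iff (a := g⁻¹), ← e3, sq]; group)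
  rcases PLoc.eq_one_or_neg_one_of_sq S.two e4 with rfl | rfl <;> simp at m0

theorem rfree' (hc : t • c ≠ c) (h : ρ M • c = ρ N • c) : M = N :=
  (inv_mul_eq_one.1 (S.rfree hc (by rw [map_mul, mul_smul, h, map_inv, inv_smul_smul]))).symm

theorem ncardΔc : {c : Ω | t • c ≠ c}.ncard = 𝓺 * (𝓺 ^ 2 - 1) := by
  have := S.finite
  have e1 := S.ncard_fix bot_le
  have e2 := Set.ncard_add_ncard_compl {c : Ω | t • c = c}
  simp only [bot_le, Set.setOf_true, Set.ncard_univ, C_bot, inf_top_eq, S.card] at e1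
  rw [e1, S.ncardΔ] at e2
  rw [Nat.mul_sub_one, ← pow_succ']
  exact Nat.eq_sub_of_add_eq (by rw [← Nat.add_right_cancel_iff (n := 1), ← e2, add_comm (_ + 1), add_assoc]; rfl)

theorem exists_nΔ : ∃ c : Ω, t • c ≠ c := Set.nonempty_of_ncard_ne_zero (s := {c : Ω | t • c ≠ c}) (by
  have := S.q3
  rw [S.ncardΔc]
  exact mul_ne_zero (by omega) (Nat.sub_ne_zero_of_lt (Nat.one_lt_pow two_ne_zero (by omega))))

variable [Finite F]

theorem reg (hc : t • c ≠ c) (hd : t • d ≠ d) : ∃ M, ρ M • c = d := by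
  have := S.finite
  have := Fintype.ofFinite F
  exact (Set.eq_of_subset_of_ncard_le (s := Set.range fun M => ρ M • c) (t := {c : Ω | t • c ≠ c})
    (by rintro _ ⟨M, rfl⟩; exact S.nΔ M hc) (by
      rw [Set.ncard_range_of_injective fun M N => S.rfree' hc, Class.card_SL2, S.ncardΔc, ← Nat.card_eq_fintype_card,
        S.cardF])).ge hd

theorem exists_xy :
    ∃ (E : Type) (_ : Field E) (ι : F →+* E) (σ : E →+* E) (δ : E) (x y : Ω → E), Class.UF σ (Nat.card F) ∧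
      (∀ r, σ (ι r) = ι r) ∧ (∀ z, σ z = z → ∃ r, ι r = z) ∧ σ δ = -δ ∧
      (∀ c, t • c ≠ c → δ * (x c * σ (y c) - σ (x c) * y c) = -1) ∧
      (∀ c, t • c ≠ c → ∀ d, t • d ≠ d → x c = x d → y c = y d → c = d) ∧
      (∀ X Y, δ * (X * σ Y - σ X * Y) = -1 → ∃ c, t • c ≠ c ∧ x c = X ∧ y c = Y) ∧
      (∀ M c, t • c ≠ c → x (ρ M • c) = ι (M 0 0) * x c + ι (M 0 1) * y c ∧
        y (ρ M • c) = ι (M 1 0) * x c + ι (M 1 1) * y c) ∧
      ∀ h ∈ 𝓗, ∃ κ l, (∀ r, h * ρ (sU r) * h⁻¹ = ρ (sU (κ * r))) ∧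
        ∀ c, t • c ≠ c → x (h • c) = l * ι κ * x c ∧ y (h • c) = l * y c := by
  classical
  obtain ⟨h, hh⟩ := cyc_iff.1 S.cyc
  have hH : h ∈ 𝓗 := hh ▸ mem_zpowers h
  obtain ⟨κ, hκ⟩ := S.cj h hH
  obtain ⟨o, ho⟩ := S.exists_nΔ
  have nH : ∀ h ∈ 𝓗, ∀ c : Ω, t • c ≠ c → t • h • c ≠ h • c := fun h hh c => mt (S.Δg (S.Ht hh)).1
  obtain ⟨N, hN⟩ := S.reg ho (nH h hH o ho)
  have nf : ∀ c : Ω, t • c = c → ρ N • c ≠ h • c := fun c hc e => by
    have := inv_mul_eq_one.1 (S.fix2 (mul_mem (inv_mem (S.Ht hH)) (S.ct N)) hc ho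
      (by rw [mul_smul, e, inv_smul_smul]) (by rw [mul_smul, hN, inv_smul_smul]))
    obtain ⟨μ, x, e⟩ := S.fix_a (M := N) (this ▸ hH.1)
    have x1 := S.free _ (S.eU x) (smul_left_cancel (ρ (sD μ)) (by
      rw [← mul_smul, ← map_mul, ← e, ← this, hH.2, (S.kD μ).2]))
    rw [e, map_mul, x1, mul_one] at this
    obtain ⟨z, hz⟩ := FiniteField.exists_nonsquare (F := F) fun e => S.two (by
      have := ringChar.charP F
      rw [e] at this
      exact CharTwo.two_eq_zero)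
    obtain ⟨k, hk, e2⟩ := S.sur (Units.mk0 z fun e => hz (e ▸ IsSquare.zero))
    obtain ⟨i, rfl⟩ := mem_powers_iff_mem_zpowers.2 (hh.ge hk)
    have e3 := e2 (sU 1)
    simp only [this, ← map_pow] at e3
    rw [show sD μ ^ i = sD (μ ^ i) by
      clear e3 e2 hk
      induction i with
      | zero => ext i j; fin_cases i <;> fin_cases j <;> simp
      | succ i ih => rw [pow_succ, ih]; ext i j; fin_cases i <;> fin_cases j <;> simp [pow_succ, mul_comm],
      S.conj_sD, dcj_sU] at e3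
    exact hz ⟨_, by simpa [sq] using (S.crd.inj e3).symm⟩
  obtain ⟨E, _, ι, σ, x, l, δ, uf, σι, fx, h1, h3, h4⟩ := exists_eigen S.two (m0 := (κ : F)⁻¹ * N 0 0)
    (m1 := (κ : F)⁻¹ * N 0 1) (m2 := N 1 0) (m3 := N 1 1)
    (fun e => nf a S.tH.1 ((S.fix_a' e).trans hH.1.symm)) fun r e => nf (ρ (sU r) • b)
      ((S.Δg (S.ct _)).2 S.tH.2) (by
        have := S.fix_b' (M := (sU (κ * r))⁻¹ * N * sU r) (by
          simp [PLoc.sl2_mul, PLoc.sl2_inv_00, PLoc.sl2_inv_01]; field_simp at e; linear_combination e)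
        rwa [map_mul, map_mul, mul_smul, mul_smul, map_inv, inv_smul_eq_iff, ← dcj_sU, ← hκ, S.conjb hH] at this)
  have σσ := uf.σσ
  have h2 := congrArg σ h1
  simp only [map_mul, map_sub, σσ, map_neg, map_one] at h2
  have σδ : σ δ = -δ := by grind
  choose! P hP using fun c (hc : t • c ≠ c) => S.reg ho hc
  have act : ∀ M c, t • c ≠ c → P (ρ M • c) = M * P c := fun M c hc => S.rfree' ho (by
    rw [hP _ (S.nΔ M hc), map_mul, mul_smul, hP c hc])
  have det : ∀ M : SL(2, F), ι (M 0 0) * ι (M 1 1) - ι (M 0 1) * ι (M 1 0) = 1 := fun M => by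
    simpa using congrArg ι (PLoc.sl2_det M)
  have ind : ∀ r s r' s', ι r * x + ι s = ι r' * x + ι s' → r = r' ∧ s = s' := fun r s r' s' e => by
    have e' := congrArg σ e
    simp only [map_add, map_mul, σι] at e'
    exact ⟨ι.injective (by grind), ι.injective (by grind)⟩
  have span : ∀ z, ∃ r s, ι r * x + ι s = z := fun z => by
    obtain ⟨r, hr⟩ := fx (δ * (σ z - z)) (by simp [σσ, σδ]; ring)
    obtain ⟨s, hs⟩ := fx (δ * (z * σ x - σ z * x)) (by simp [σσ, σδ]; ring)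
    exact ⟨r, s, by grind⟩
  refine ⟨E, inferInstance, ι, σ, δ, fun c => ι (P c 0 0) * x + ι (P c 0 1),
    fun c => ι (P c 1 0) * x + ι (P c 1 1), uf, σι, fx, σδ, fun c hc => ?_, fun c hc d hd e1 e2 => ?_,
    fun X Y h => ?_, fun M c hc => ?_, fun k hk => ?_⟩
  · have := det (P c)
    simp only [map_add, map_mul, σι]
    grind
  · rw [← hP c hc, ← hP d hd, PLoc.sl2_ext (ind _ _ _ _ e1).1 (ind _ _ _ _ e1).2 (ind _ _ _ _ e2).1
      (ind _ _ _ _ e2).2]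
  · obtain ⟨r, s, rfl⟩ := span X
    obtain ⟨r', s', rfl⟩ := span Y
    simp only [map_add, map_mul, σι] at h
    let M : SL(2, F) := ⟨!![r, s; r', s'], by
      rw [Matrix.det_fin_two_of]; exact ι.injective (by simp only [map_sub, map_mul, map_one]; grind)⟩
    have : P (ρ M • o) = M := S.rfree' ho (hP _ (S.nΔ M ho))
    exact ⟨ρ M • o, S.nΔ M ho, by simp [this, M], by simp [this, M]⟩
  · simp only [act M c hc, PLoc.sl2_mul, map_add, map_mul]
    exact ⟨by ring, by ring⟩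
  obtain ⟨i, rfl⟩ := mem_powers_iff_mem_zpowers.2 (hh.ge hk)
  clear hk
  induction i with
  | zero => exact ⟨1, 1, by simp, by simp⟩
  | succ i ih =>
    obtain ⟨k, m, e1, e2⟩ := ih
    refine ⟨κ * k, l * m, fun r => ?_, fun c hc => ?_⟩
    · simp only [pow_succ'] at *
      rw [mul_assoc (κ : F), ← dcj_sU, ← hκ, ← e1]; group
    have hc' := nH _ (pow_mem hH i) c hc
    obtain ⟨e3, e4⟩ := e2 c hc
    simp only [pow_succ', mul_smul] at *
    generalize h ^ i • c = d at *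
    have : P (h • d) = dcj κ (P d) * N := S.rfree' ho (by
      rw [hP _ (nH h hH d hc'), map_mul, mul_smul, hN, ← hκ, mul_smul, inv_smul_smul, mul_smul, hP d hc'])
    have k0 : ι κ ≠ 0 := by simp
    simp only [map_mul, map_inv₀] at h3
    simp [this, PLoc.sl2_mul]
    exact ⟨by grind, by grind⟩

end SLo

end Cfsg.Agent.UO
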