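import Cfsg.Agent.UO.D

/-! Odd unitary type: coordinates on `U` and the inversion formula. -/

set_option autoImplicit false
set_option linter.unusedVariables false
set_option linter.unusedSectionVars false
set_option quotPrecheck false

namespace Cfsg.Agent.UO

open Subgroup MulAction Cfsg.Agent.BG Cfsg.Agent.Inv Cfsg.Agent.Lie
open scoped MatrixGroups

variable {G Ω : Type*} [Group G] [MulAction G Ω]
variable {a b : Ω} {t : G} {U : Subgroup G} {p n : ℕ} {F : Type} [Field F] {ρ : SL(2, F) →* G}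

local notation "𝓗" => St2 G a b
local notation "𝓩" => U ⊓ C1[t]
local notation "𝓺" => p ^ n
local notation "𝛎" => ρ (sN 1)

/-- coordinates on `U` -/
structure UCo (S : SLo G a b U p n t ρ) {E : Type} [Field E] (ι : F →+* E) (σ : E →+* E) (δ : E)
    (A B : G → E) : Prop where
  uf : Class.UF σ (Nat.card F)
  σι : ∀ r, σ (ι r) = ι r
  fix : ∀ z, σ z = z → ∃ r, ι r = z
  σδ : σ δ = -δ
  δ0 : δ ≠ 0
  tr : ∀ u ∈ U, B u + σ (B u) + σ (A u) * A u = 0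
  inj : ∀ u ∈ U, ∀ v ∈ U, A u = A v → B u = B v → u = v
  surj : ∀ α β, β + σ β + σ α * α = 0 → ∃ u ∈ U, A u = α ∧ B u = β
  mulz : ∀ r, ∀ u ∈ U, A (ρ (sU r) * u) = A u ∧ B (ρ (sU r) * u) = B u + δ * ι r
  one : A 1 = 0 ∧ B 1 = 0
  tact : ∀ u ∈ U, ∀ v ∈ U, 𝛎 • u • b = v • b → A v * B u = -δ * A u ∧ B v * B u = -δ ^ 2
  act : ∀ h ∈ 𝓗, ∃ μ, UAct σ U A B h μ
  actt : ∀ u ∈ U, A (t * u * t⁻¹) = -A u ∧ B (t * u * t⁻¹) = B u

variable [Finite G]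

theorem SLo.ν_sU (S : SLo G a b U p n t ρ) {r : F} (h : r ≠ 0) : 𝛎 • ρ (sU r) • b = ρ (sU (-r⁻¹)) • b := by
  have := S.fix_b' (M := (sU (-r⁻¹))⁻¹ * sN 1 * sU r) (by
    simp [PLoc.sl2_mul, PLoc.sl2_inv_00, PLoc.sl2_inv_01, h])
  rwa [map_mul, map_mul, mul_smul, mul_smul, map_inv, inv_smul_eq_iff] at this

theorem SLo.exists_UCo (S : SLo G a b U p n t ρ) [Finite F] :
    ∃ (E : Type) (_ : Field E) (ι : F →+* E) (σ : E →+* E) (δ : E) (A B : G → E), UCo S ι σ δ A B := by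
  classical
  obtain ⟨E, _, ι, σ, δ, x, y, uf, σι, fx, σδ, h1, h3, h4, h5, h6⟩ := S.exists_xy
  obtain ⟨o, ho⟩ := S.exists_nΔ
  have δ0 : δ ≠ 0 := fun e => by simpa [e] using h1 o ho
  have y0 : ∀ c : Ω, t • c ≠ c → y c ≠ 0 := fun c hc e => by simpa [e] using h1 c hc
  have x0 : ∀ c : Ω, t • c ≠ c → x c ≠ 0 := fun c hc e => by simpa [e] using h1 c hc
  let A : G → E := fun u => if u ∈ 𝓩 then 0 else (y (u • b))⁻¹
  let B : G → E := fun u => if u ∈ 𝓩 then δ * ι (Function.invFun (fun r => ρ (sU r)) u)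
    else δ * x (u • b) / y (u • b)
  have a1 : ∀ r, A (ρ (sU r)) = 0 ∧ B (ρ (sU r)) = δ * ι r := fun r =>
    ⟨if_pos (S.crd.mem r), (if_pos (S.crd.mem r)).trans (by rw [Function.leftInverse_invFun S.crd.inj r])⟩
  have a2 : ∀ u ∈ U, t • u • b ≠ u • b → A u = (y (u • b))⁻¹ ∧ B u = δ * x (u • b) / y (u • b) :=
    fun u hu h => ⟨if_neg (mt (S.fixt hu).2 h), if_neg (mt (S.fixt hu).2 h)⟩
  have cs : ∀ u ∈ U, (∃ r, u = ρ (sU r)) ∨ t • u • b ≠ u • b := fun u hu => (em _).imp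
    (fun h => (S.crd.surj u ((S.fixt hu).1 h)).imp fun _ => Eq.symm) id
  have nH : ∀ h ∈ 𝓗, ∀ u : G, t • u • b ≠ u • b → t • (h * u * h⁻¹) • b ≠ (h * u * h⁻¹) • b := fun h hh u =>
    S.conjb hh u ▸ mt (S.Δg (S.Ht hh)).1
  refine ⟨E, inferInstance, ι, σ, δ, A, B, uf, σι, fx, σδ, δ0, fun u hu => ?_, fun u hu v hv e1 e2 => ?_,
    fun α β h => ?_, fun r u hu => ?_, S.crd.zero ▸ ⟨(a1 0).1, by simpa using (a1 0).2⟩,
    fun u hu v hv e => ?_, fun d hd => ?_, fun u hu => ?_⟩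
  · rcases cs u hu with ⟨r, rfl⟩ | h
    · rw [(a1 r).1, (a1 r).2, map_mul, σι, σδ]; ring
    · have := y0 _ h
      have : σ (y (u • b)) ≠ 0 := by simpa
      rw [(a2 u hu h).1, (a2 u hu h).2, map_div₀, map_inv₀, map_mul, σδ]
      field_simp; linear_combination h1 _ h
  · rcases cs u hu with ⟨r, rfl⟩ | h <;> rcases cs v hv with ⟨r', rfl⟩ | h'
    · rw [(a1 r).2, (a1 r').2] at e2; rw [ι.injective (mul_left_cancel₀ δ0 e2)]
    · rw [(a1 r).1, (a2 v hv h').1] at e1; exact absurd (inv_eq_zero.1 e1.symm) (y0 _ h')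
    · rw [(a1 r').1, (a2 u hu h).1] at e1; exact absurd (inv_eq_zero.1 e1) (y0 _ h)
    · rw [(a2 u hu h).1, (a2 v hv h').1, inv_inj] at e1
      rw [(a2 u hu h).2, (a2 v hv h').2, e1, div_left_inj' (y0 _ h')] at e2
      exact S.inj hu hv (h3 _ h _ h' (mul_left_cancel₀ δ0 e2) e1)
  · by_cases α0 : α = 0
    · obtain ⟨r, e⟩ := fx (β / δ) (by rw [map_div₀, σδ]; grind)
      exact ⟨_, S.eU r, α0 ▸ (a1 r).1, by rw [(a1 r).2, e, mul_div_cancel₀ _ δ0]⟩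
    have : σ α ≠ 0 := by simpa
    obtain ⟨c, hc, e1, e2⟩ := h4 (β / (δ * α)) α⁻¹ (by
      rw [map_div₀, map_inv₀, map_mul, σδ]; field_simp; linear_combination h)
    obtain ⟨u, hu, rfl⟩ := S.trans c fun e => hc (e ▸ S.tH.1)
    exact ⟨u, hu, by rw [(a2 u hu hc).1, e2, inv_inv], by rw [(a2 u hu hc).2, e1, e2]; field_simp⟩
  · rcases cs u hu with ⟨r', rfl⟩ | h
    · rw [← S.crd.add, (a1 _).1, (a1 _).1, (a1 _).2, (a1 _).2, map_add]; exact ⟨rfl, by ring⟩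
    · have h' : t • (ρ (sU r) * u) • b ≠ (ρ (sU r) * u) • b := mul_smul _ u b ▸ S.nΔ _ h
      have m := mul_mem (S.eU r) hu
      have := y0 _ h
      rw [(a2 _ m h').1, (a2 _ m h').2, (a2 u hu h).1, (a2 u hu h).2, mul_smul, (h5 _ _ h).1, (h5 _ _ h).2]
      simp; field_simp
  · rcases cs u hu with ⟨r, rfl⟩ | h
    · have r0 : r ≠ 0 := fun h => S.neU hv (by rw [← e, h, S.crd.zero, one_smul, S.sb])
      rw [← S.inj (S.eU _) hv ((S.ν_sU r0).symm.trans e), (a1 _).1, (a1 _).1, (a1 _).2, (a1 _).2]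
      have : ι r ≠ 0 := by simpa
      simp; field_simp
    · have h' : t • v • b ≠ v • b := e ▸ S.nΔ _ h
      have := y0 _ h
      have := x0 _ h
      have e1 := h5 (sN 1) _ h
      rw [e] at e1
      rw [(a2 _ hv h').1, (a2 _ hv h').2, (a2 u hu h).1, (a2 u hu h).2, e1.1, e1.2]
      simp; constructor <;> field_simp
  · obtain ⟨κ, l, hκ, hl⟩ := h6 d hd
    have n : σ l * l * ι κ = 1 := by
      have e1 := h1 _ (mt (S.Δg (S.Ht hd)).1 ho)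
      have := h1 _ ho
      rw [(hl o ho).1, (hl o ho).2, map_mul, map_mul, map_mul, σι] at e1
      linear_combination -e1 + σ l * l * ι κ * this
    have l0 : l ≠ 0 := fun e => by simp [e] at n
    refine ⟨l⁻¹, inv_ne_zero l0, fun u hu => ?_⟩
    rw [map_inv₀, ← mul_inv, inv_eq_of_mul_eq_one_right n]
    rcases cs u hu with ⟨r, rfl⟩ | h
    · rw [hκ, (a1 _).1, (a1 _).1, (a1 _).2, (a1 _).2, map_mul]; exact ⟨by ring, by ring⟩
    · have m := S.conjU hd hu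
      have := y0 _ h
      rw [(a2 _ m (nH d hd u h)).1, (a2 _ m (nH d hd u h)).2, (a2 u hu h).1, (a2 u hu h).2, S.conjb hd, (hl _ h).1,
        (hl _ h).2]
      constructor <;> field_simp
  · rcases cs u hu with ⟨r, rfl⟩ | h
    · rw [← mem_C1.1 (S.ct _), mul_inv_cancel_right, (a1 _).1, neg_zero]; exact ⟨rfl, rfl⟩
    · have m := S.conjU S.tH hu
      have e := h5 (sD (-1)) _ h
      rw [S.neg] at e
      rw [(a2 _ m (nH t S.tH u h)).1, (a2 _ m (nH t S.tH u h)).2, (a2 u hu h).1, (a2 u hu h).2, S.conjb S.tH,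
        e.1, e.2]
      simp [neg_div_neg_eq]

namespace UCo

variable {S : SLo G a b U p n t ρ} {E : Type} [Field E] {ι : F →+* E} {σ : E →+* E} {δ : E} {A B : G → E}
  (X : UCo S ι σ δ A B) {u v w h g x : G}
include X

theorem two : (2 : E) ≠ 0 := by rw [← map_ofNat ι]; simpa using S.two

theorem eA (r : F) : A (ρ (sU r)) = 0 := by simpa [X.one.1] using (X.mulz r 1 (one_mem _)).1
theorem eB (r : F) : B (ρ (sU r)) = δ * ι r := by simpa [X.one.2] using (X.mulz r 1 (one_mem _)).2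

theorem same (hu : u ∈ U) (hv : v ∈ U) (h : A u = A v) : ∃ r, u = ρ (sU r) * v := by
  have h1 := X.tr u hu
  have h3 := X.tr v hv
  have := X.δ0
  obtain ⟨r, hr⟩ := X.fix ((B u - B v) / δ) (by rw [map_div₀, map_sub, X.σδ]; grind)
  exact ⟨r, X.inj _ hu _ (mul_mem (S.eU r) hv) (by rw [(X.mulz r v hv).1, h])
    (by rw [(X.mulz r v hv).2]; grind)⟩

theorem B_ne (hu : u ∈ U) (h : A u ≠ 0) : B u ≠ 0 := fun e => h (by simpa [e] using X.tr u hu)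

theorem B_ne' (hu : u ∈ U) (h : A u ≠ 0) (r : F) : B u + δ * ι r ≠ 0 :=
  (X.mulz r u hu).2 ▸ X.B_ne (mul_mem (S.eU r) hu) (by rwa [(X.mulz r u hu).1])

theorem inv_sU (hu : u ∈ U) (r : F) : (ρ (sU r) * u)⁻¹ = ρ (sU (-r)) * u⁻¹ := by
  rw [mul_inv_rev, ← S.crd.neg, S.Zc (S.crd.mem _) (inv_mem hu)]

theorem dec (hu : u ∈ U) : ∃ r, ∃ x ∈ U, t * x * t⁻¹ = x⁻¹ ∧ u = ρ (sU r) * x := by
  obtain ⟨z, hz, x, hx, e1, e2, rfl⟩ := exists_cent_mul_inv S.tt S.oddU (fun x => S.conjU S.tH) hu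
  obtain ⟨r, rfl⟩ := S.crd.surj z ⟨hz, mem_C1'.2 (mul_inv_eq_iff_eq_mul.1 e1)⟩
  exact ⟨r, x, hx, e2, rfl⟩

theorem A_inv (hu : u ∈ U) : A u⁻¹ = -A u := by
  obtain ⟨r, x, hx, e, rfl⟩ := X.dec hu
  rw [X.inv_sU hx, (X.mulz _ _ (inv_mem hx)).1, (X.mulz _ _ hx).1, ← e, (X.actt x hx).1]

/-- an invariant of the two-point stabilizer -/
def T (_X : UCo S ι σ δ A B) (u : G) : E := B u / (σ (A u) * A u)

/-- the defect of the inversion formula -/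
def Θ (X : UCo S ι σ δ A B) (u : G) : E := X.T u⁻¹ - σ (X.T u)

theorem T_conj (hh : h ∈ 𝓗) (hu : u ∈ U) : X.T (h * u * h⁻¹) = X.T u := by
  obtain ⟨μ, μ0, e⟩ := X.act h hh
  rw [T, T, (e u hu).1, (e u hu).2, map_mul, mul_mul_mul_comm, mul_div_mul_left _ _ (by simpa)]

theorem T_tr (hu : u ∈ U) (h : A u ≠ 0) : X.T u + σ (X.T u) = -1 := by
  have : σ (A u) ≠ 0 := by simpa
  simp only [T, map_div₀, map_mul, X.uf.σσ]
  field_simp; linear_combination X.tr u hu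

theorem T_swap (h1 : g • a = b) (h2 : g • b = a) (hu : u ∈ U) (hv : v ∈ U) (h0 : A u ≠ 0) (e : g • u • b = v • b) :
    A v ≠ 0 ∧ X.T v = σ (X.T u) := by
  have hh := S.swapH (smul_eq_iff_inv.1 h2) (smul_eq_iff_inv.1 h1) (smul_eq_iff_inv.1 S.sb) (smul_eq_iff_inv.1 S.sa)
  rw [inv_inv] at hh
  obtain ⟨w, hw, e1⟩ := S.trans (𝛎 • u • b) fun e => h0 (by
    rw [S.free u hu (smul_left_cancel _ (e.trans S.sb.symm)), X.one.1])
  obtain rfl := S.inj (S.conjU hh hw) hv (by rw [S.conjb hh, e1, mul_smul, inv_smul_smul, e])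
  obtain ⟨b1, b2⟩ := X.tact u hu w hw e1.symm
  obtain ⟨μ, μ0, e⟩ := X.act _ hh
  have := X.δ0
  have β0 := X.B_ne hu h0
  have β1 : σ (B u) ≠ 0 := by simpa
  have : σ (A u) ≠ 0 := by simpa
  rw [← eq_div_iff β0] at b1 b2
  refine ⟨by rw [(e w hw).1]; simp [*], ?_⟩
  rw [X.T_conj hh hw]
  simp only [T, b1, b2, map_div₀, map_mul, map_neg, X.σδ, X.uf.σσ]
  field_simp

theorem Θ_sU (hu : u ∈ U) (r : F) : X.Θ (ρ (sU r) * u) = X.Θ u := by
  simp only [Θ, T, X.inv_sU hu, X.mulz _ _ hu, X.mulz _ _ (inv_mem hu), X.A_inv hu, map_div₀, map_mul, map_add,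
    map_neg, X.σι, X.σδ, X.uf.σσ]
  ring

theorem Θ_conj (hh : h ∈ 𝓗) (hu : u ∈ U) : X.Θ (h * u * h⁻¹) = X.Θ u := by
  rw [Θ, Θ, conj_inv, X.T_conj hh hu, X.T_conj hh (inv_mem hu)]

theorem Θ_step (hu : u ∈ U) (h0 : A u ≠ 0) : ∃ g ∈ U, A g ≠ 0 ∧ X.Θ u = -2 * X.Θ g := by
  obtain ⟨r, x, hx, e, rfl⟩ := X.dec hu
  rw [(X.mulz _ _ hx).1] at h0
  obtain ⟨g, hg, e1⟩ := S.trans (𝛎 • x • b) fun e => h0 (by
    rw [S.free x hx (smul_left_cancel _ (e.trans S.sb.symm)), X.one.1])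
  obtain ⟨g0, e2⟩ := X.T_swap S.sa S.sb hx hg h0 e1.symm
  have g1 : A g⁻¹ ≠ 0 := by simpa [X.A_inv hg]
  have sa' : 𝛎⁻¹ • a = b := smul_eq_iff_inv.1 S.sb
  have sb' : 𝛎⁻¹ • b = a := smul_eq_iff_inv.1 S.sa
  have e3 := (X.T_swap (g := g⁻¹ * 𝛎 * x * 𝛎⁻¹ * (t * g * t⁻¹)) (by
    rw [mul_smul, S.fixU (S.conjU S.tH hg), mul_smul, sa', mul_smul, mul_smul, ← e1, inv_smul_smul]) (by
    rw [mul_smul, S.conjb S.tH, e1, ← mul_smul t, ← mem_C1.1 S.st, mul_smul 𝛎, ← S.conjb S.tH, e]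
    simp only [mul_smul, inv_smul_smul, smul_inv_smul, S.sb, S.fixU (inv_mem hg)])
    (S.conjU S.tH (inv_mem hg)) (inv_mem hg) (by simpa [(X.actt _ (inv_mem hg)).1]) (by
    rw [← conj_inv, mul_smul, smul_inv_smul, mul_smul, sb', mul_smul, S.fixU hx, mul_smul, S.sa])).2
  have e4 := X.T_conj S.tH hx
  have e5 := X.T_tr hx h0
  have e6 := X.T_tr (inv_mem hg) g1
  rw [X.T_conj S.tH (inv_mem hg)] at e3
  refine ⟨g, hg, g0, ?_⟩
  rw [X.Θ_sU hx, Θ, Θ, ← e, e4, e2, X.uf.σσ]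
  linear_combination -e5 + e6 + e3

theorem pigeon {k : ℕ} (hk : Nat.gcd 3 (𝓺 + 1) < k) {u : Fin k → G} (hu : ∀ i, u i ∈ U) (h0 : ∀ i, A (u i) ≠ 0) :
    ∃ i j, i ≠ j ∧ X.Θ (u i) = X.Θ (u j) := by
  have := X.uf.finite
  choose μ μ0 hμ using fun h : 𝓗 => X.act h h.2
  obtain ⟨⟨i, h⟩, ⟨j, h'⟩, e, ne⟩ := (Function.not_injective_iff (f := fun y : Fin k × 𝓗 =>
    Units.mk0 _ (mul_ne_zero (μ0 y.2) (h0 y.1)))).1 fun e => by
      have := Nat.card_le_card_of_injective _ e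
      rw [Nat.card_units, X.uf.card, S.cardF, ← S.cardH, Nat.card_prod, Nat.card_eq_fintype_card, Fintype.card_fin,
        Nat.mul_le_mul_right_iff (card_pos _)] at this
      omega
  replace e : μ h * A (u i) = μ h' * A (u j) := congrArg Units.val e
  refine ⟨i, j, ?_, ?_⟩
  · rintro rfl
    refine ne (Prod.ext rfl (Subtype.ext (inv_mul_eq_one.1 (S.eq_one fun c => ?_))))
    rw [mul_smul, inv_smul_eq_iff]
    rcases S.cases c with rfl | ⟨v, hv, rfl⟩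
    · exact h'.2.1.trans h.2.1.symm
    have e := mul_right_cancel₀ (h0 i) e
    rw [← S.conjb h.2, ← S.conjb h'.2, X.inj _ (S.conjU h.2 hv) _ (S.conjU h'.2 hv)
      (by rw [(hμ h v hv).1, (hμ h' v hv).1, e]) (by rw [(hμ h v hv).2, (hμ h' v hv).2, e])]
  rw [← (hμ h _ (hu i)).1, ← (hμ h' _ (hu j)).1] at e
  obtain ⟨r, e⟩ := X.same (S.conjU h.2 (hu i)) (S.conjU h'.2 (hu j)) e
  rw [← X.Θ_conj h.2 (hu i), e, X.Θ_sU (S.conjU h'.2 (hu j)), X.Θ_conj h'.2 (hu j)]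

theorem exists_Θ (p3 : p = 3) (hu : u ∈ U) (h0 : A u ≠ 0) : ∃ w ∈ U, A w ≠ 0 ∧ X.Θ w = 0 := by
  have sq : ∀ w ∈ U, w * w = 1 → w = 1 := fun w hw e =>
    sq_inj_of_odd (S.oddU.of_dvd_nat (orderOf_dvd hw)) (by simp) (by rw [e, mul_one])
  obtain ⟨r, i, hi, e, rfl⟩ := X.dec hu
  obtain ⟨x, hx, px⟩ := exists_prime_pow_mem (x := i) fun e => h0 (by rw [e, mul_one, X.eA])
  have xU : x ∈ U := zpowers_le.2 hi hx
  have tx : t * x * t⁻¹ = x⁻¹ := by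
    obtain ⟨k, rfl⟩ := hx
    simp only [← conj_zpow, e, inv_zpow]
  have x3 : x * x * x = 1 := by
    rw [← pow_three', ← p3, ← PiN.eq_prime S.pU px (orderOf_dvd xU), pow_orderOf_eq_one]
  have x1 : x ≠ 1 := fun e => px.one_lt.ne' (by rw [e, orderOf_one])
  have t1 : t • x • b = x⁻¹ • b := by rw [← S.conjb S.tH, tx]
  have t2 : t • x⁻¹ • b = x • b := by rw [← S.conjb S.tH, ← conj_inv, tx, inv_inv]
  have xi : ∀ c : Ω, x • x • c = x⁻¹ • c := fun c => by rw [← mul_smul, eq_inv_of_mul_eq_one_left x3]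
  obtain ⟨g, g1, g2⟩ := S.tr2 (c := b) (c' := x • b) fun e => x1 (S.free x xU e.symm)
  obtain ⟨w, hw, e1⟩ := S.trans (g⁻¹ • x⁻¹ • b) fun e =>
    x1 (inv_eq_one.1 (S.free _ (inv_mem xU) ((inv_smul_eq_iff.1 e).trans g1)))
  have w1 : w ≠ 1 := fun e => x1 (sq x xU (mul_eq_one_iff_eq_inv.2 (S.inj xU (inv_mem xU) (by
    rw [← g2, ← smul_inv_smul g (x⁻¹ • b), ← e1, e, one_smul]))))
  obtain ⟨k, hk⟩ : ∃ k, g⁻¹ * t * g = w * k := ⟨_, (mul_inv_cancel_left _ _).symm⟩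
  have kH : k ∈ 𝓗 := by
    rw [← inv_mul_eq_iff_eq_mul.2 hk]
    exact ⟨show _ • a = a by rw [mul_smul, mul_smul, mul_smul, g1, S.tH.2, ← g1, inv_smul_smul, S.fixU (inv_mem hw)],
      show _ • b = b by rw [mul_smul, mul_smul, mul_smul, g2, t1, ← e1, inv_smul_smul]⟩
  have k2 : w * (k * w * k⁻¹) * (k * k) = 1 := by
    rw [show w * (k * w * k⁻¹) * (k * k) = w * k * (w * k) by group, ← hk,
      show g⁻¹ * t * g * (g⁻¹ * t * g) = g⁻¹ * (t * t) * g by group, S.tt]; group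
  have k3 : k * k = 1 := S.UH.le (mem_inf.2 ⟨eq_inv_of_mul_eq_one_right k2 ▸ inv_mem (mul_mem hw (S.conjU kH hw)), mul_mem kH kH⟩)
  rw [k3, mul_one] at k2
  obtain rfl := S.uniq kH k3 fun e => w1 (sq w hw (by simpa [e] using k2))
  replace k2 := eq_inv_of_mul_eq_one_right k2
  have w0 : A w ≠ 0 := fun e => by
    obtain ⟨r, rfl⟩ := X.same hw (one_mem _) (e.trans X.one.1.symm)
    rw [mul_one] at *
    rw [← mem_C1.1 (S.ct _), mul_inv_cancel_right] at k2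
    exact w1 (sq _ hw (mul_eq_one_iff_eq_inv.2 k2))
  refine ⟨w, hw, w0, ?_⟩
  rw [Θ, ← k2, X.T_conj kH hw, ← (X.T_swap (g := g⁻¹ * x⁻¹ * k * x * g) ?_ ?_ hw hw w0 ?_).2, sub_self] <;>
    simp only [mul_smul, g1, g2, e1, t1, t2, xi, inv_smul_smul, smul_inv_smul, show k • b = b from kH.2, inv_smul_eq_iff]

theorem B_inv (hu : u ∈ U) : B u⁻¹ = σ (B u) := by
  by_cases h0 : A u = 0
  · obtain ⟨r, rfl⟩ := X.same hu (one_mem _) (h0.trans X.one.1.symm)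
    rw [mul_one, ← S.crd.neg, X.eB, X.eB, map_mul, X.σι, X.σδ, map_neg]; ring
  suffices X.Θ u = 0 by
    simp only [Θ, T, X.A_inv hu, map_div₀, map_mul, map_neg, X.uf.σσ, neg_mul_neg, mul_comm (A u), sub_eq_zero] at this
    exact (div_left_inj' (by simpa)).1 this
  by_cases h3 : (3 : F) = 0
  · have o3 : ρ (sU 1) ^ 3 = 1 := by
      rw [pow_three', ← S.crd.add, ← S.crd.add, S.crd.eq_one, ← h3]; norm_num
    have : Fact (Nat.Prime 3) := ⟨Nat.prime_three⟩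
    have p3 := PiN.eq_prime S.pU Nat.prime_three
      (orderOf_eq_prime o3 (mt S.crd.eq_one.1 one_ne_zero) ▸ orderOf_dvd (S.eU 1))
    obtain ⟨w, hw, w0, e⟩ := X.exists_Θ p3.symm hu h0
    obtain ⟨i, j, ne, h⟩ := X.pigeon (u := ![u, w]) (by
      obtain ⟨m, hm⟩ := dvd_pow_self p S.n0
      rw [hm, ← p3, add_comm, Nat.gcd_add_mul_left_right]; decide)
      (fun i => by fin_cases i <;> simpa) (fun i => by fin_cases i <;> simpa)
    fin_cases i <;> fin_cases j <;> simp_all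
  obtain ⟨u1, a1, b1, c1⟩ := X.Θ_step hu h0
  obtain ⟨u2, a2, b2, c2⟩ := X.Θ_step a1 b1
  obtain ⟨u3, a3, b3, c3⟩ := X.Θ_step a2 b2
  obtain ⟨i, j, ne, h⟩ := X.pigeon (u := ![u, u1, u2, u3]) (Nat.lt_succ_of_le (Nat.gcd_le_left _ three_pos))
    (fun i => by fin_cases i <;> simpa) (fun i => by fin_cases i <;> simpa)
  have two := X.two
  have three : (3 : E) ≠ 0 := by rw [← map_ofNat ι]; simpa
  have nine : (9 : E) ≠ 0 := by simpa [show (9 : E) = 3 * 3 by norm_num]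
  fin_cases i <;> fin_cases j <;> simp at ne h <;> grind

end UCo

end Cfsg.Agent.UO
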